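import Cfsg.Agent.Lib.FPF.SingerField
import Cfsg.Agent.Lib.PGroup.Basic
import Mathlib.GroupTheory.Index
import Mathlib.Data.Nat.Choose.Dvd
import Mathlib.LinearAlgebra.FiniteDimensional.Basic
import Mathlib.GroupTheory.Commutator.Basic

/-!
# Camina `p`-groups with an automorphism acting as a Singer cycle on the abelianisation

Such a group has class at most two; it has exponent `p` for odd `p` and exponent dividing four for `p = 2`.
-/

set_option autoImplicit false
set_option linter.style.haveILetI false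

namespace Cfsg.Lib.FPF

open Subgroup
open scoped commutatorElement

universe u v

variable {p n : ℕ} {F : Type v} [Field F] (α : Fˣ)

/-- A group whose abelianisation is `F`, with an automorphism inducing multiplication by `α`, and whose
classes outside the derived subgroup are unions of its cosets. -/
structure Singer (Q : Type u) [Group Q] where
  ψ : Q → F
  φ : MulAut Q
  map_mul : ∀ x y, ψ (x * y) = ψ x + ψ y
  surj : Function.Surjective ψ
  ker : ∀ x, ψ x = 0 ↔ x ∈ _root_.commutator Q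
  equivariant : ∀ x, ψ (φ x) = (α : F) * ψ x
  camina : ∀ x, ψ x ≠ 0 → ∀ u ∈ _root_.commutator Q, ∃ y, y * x * y⁻¹ = x * u

namespace Singer

variable {α} {Q : Type u} [Group Q]

theorem comm_mul_left {a b y : Q} (h : ⁅b, y⁆ ∈ center Q) : ⁅a * b, y⁆ = ⁅a, y⁆ * ⁅b, y⁆ := by
  rw [commutatorElement_mul_left_eq_conj_mul, mem_center_iff.mp h a, mul_inv_cancel_right,
    ← mem_center_iff.mp h]

theorem comm_mul_right {x a b : Q} (h : ⁅x, b⁆ ∈ center Q) : ⁅x, a * b⁆ = ⁅x, a⁆ * ⁅x, b⁆ := by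
  have e : ⁅x, a * b⁆ = ⁅x, a⁆ * (a * ⁅x, b⁆ * a⁻¹) := by simp only [commutatorElement_def]; group
  rw [e, mem_center_iff.mp h a, mul_inv_cancel_right]

variable (d : Singer α Q)
include d

theorem map_one : d.ψ 1 = 0 := by
  have := d.map_mul 1 1
  rw [one_mul] at this
  exact left_eq_add.mp this

theorem map_inv (x : Q) : d.ψ x⁻¹ = -d.ψ x := by
  have := d.map_mul x⁻¹ x
  rw [inv_mul_cancel, d.map_one] at this
  exact eq_neg_of_add_eq_zero_left this.symm

theorem map_pow (x : Q) (k : ℕ) : d.ψ (x ^ k) = k • d.ψ x := by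
  induction k with
  | zero => rw [pow_zero, d.map_one, zero_smul]
  | succ k ih => rw [pow_succ, d.map_mul, ih, succ_nsmul]

theorem map_phi_pow (k : ℕ) (x : Q) : d.ψ ((d.φ ^ k) x) = ((α ^ k : Fˣ) : F) * d.ψ x := by
  induction k with
  | zero => simp
  | succ k ih =>
    rw [pow_succ', MulAut.mul_apply, d.equivariant, ih, pow_succ', Units.val_mul, mul_assoc]

theorem mem_of_eq {x y : Q} (h : d.ψ x = d.ψ y) : x⁻¹ * y ∈ _root_.commutator Q := by
  rw [← d.ker, d.map_mul, d.map_inv, h, neg_add_cancel]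

/-- A representative of an element of `F`. -/
noncomputable def rep (u : F) : Q := Function.surjInv d.surj u

theorem psi_rep (u : F) : d.ψ (d.rep u) = u := Function.surjInv_eq d.surj u

theorem pow_mem [CharP F p] (x : Q) : x ^ p ∈ _root_.commutator Q := by
  rw [← d.ker, d.map_pow, nsmul_eq_mul, CharP.cast_eq_zero, zero_mul]

variable [Finite Q] [Fintype F]

theorem index_commutator : (_root_.commutator Q).index = Nat.card F := by
  rw [index_eq_card]
  refine Nat.card_eq_of_bijective (Quotient.lift d.ψ fun x y hxy => ?_) ⟨?_, fun u => ⟨QuotientGroup.mk (d.rep u), d.psi_rep u⟩⟩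
  · have h := (d.ker _).mpr (QuotientGroup.leftRel_apply.mp hxy)
    rw [d.map_mul, d.map_inv, neg_add_eq_zero] at h
    exact h
  · rintro ⟨x⟩ ⟨y⟩ h
    exact QuotientGroup.eq.mpr (d.mem_of_eq h)

/-- A central subgroup of the derived subgroup is small. -/
theorem card_lt (L : Subgroup Q) (hL : L ≤ center Q) (hL' : L ≤ _root_.commutator Q) :
    Nat.card L < Nat.card F := by
  obtain ⟨x, hx⟩ : ∃ x, d.ψ x = 1 := d.surj 1
  have hx0 : d.ψ x ≠ 0 := hx ▸ one_ne_zero
  set C := centralizer ({x} : Set Q)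
  choose y hy using fun u : _root_.commutator Q => d.camina x hx0 u u.2
  have hinj : Function.Injective fun u => (QuotientGroup.mk (y u) : Q ⧸ C) := by
    intro u w h
    have hc : (y u)⁻¹ * y w * x = x * ((y u)⁻¹ * y w) := mem_centralizer_singleton_iff.mp (QuotientGroup.eq.mp h)
    have e : y w * x * (y w)⁻¹ = y u * x * (y u)⁻¹ := by
      calc y w * x * (y w)⁻¹ = y u * ((y u)⁻¹ * y w * x) * (y w)⁻¹ := by group
        _ = y u * (x * ((y u)⁻¹ * y w)) * (y w)⁻¹ := by rw [hc]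
        _ = y u * x * (y u)⁻¹ := by group
    rw [hy, hy] at e
    exact Subtype.ext (mul_left_cancel e).symm
  have h1 : Nat.card (_root_.commutator Q) ≤ C.index := by
    rw [index_eq_card]; exact Nat.card_le_card_of_injective _ hinj
  have h2 : L < C := by
    refine lt_of_le_of_ne (fun l hl => mem_centralizer_singleton_iff.mpr ((mem_center_iff.mp (hL hl)) x).symm) fun h => ?_
    exact hx0 ((d.ker x).mpr (hL' (h ▸ mem_centralizer_singleton_iff.mpr rfl)))
  have h3 : Nat.card L < Nat.card C := by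
    by_contra hc
    exact h2.ne (eq_of_le_of_card_ge h2.le (not_lt.mp hc))
  refine lt_of_lt_of_le h3 ?_
  have h4 := C.card_mul_index
  rw [← (_root_.commutator Q).card_mul_index, d.index_commutator] at h4
  refine Nat.le_of_mul_le_mul_left ?_ (Nat.card_pos (α := _root_.commutator Q))
  rw [← h4, mul_comm]
  exact Nat.mul_le_mul_left _ h1

/-- A functional and an annihilating relation detecting an element of a small central subgroup. -/
theorem exists_functional [Fact p.Prime] [CharP F p] (hF : Nat.card F = p ^ n) (L : Subgroup Q) (hL : L ≤ center Q)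
    (hL' : L ≤ _root_.commutator Q) (hexp : ∀ m ∈ L, m ^ p = 1) (hφ : ∀ m ∈ L, d.φ m ∈ L) {l : Q} (hl : l ∈ L)
    (hl1 : l ≠ 1) :
    ∃ (f : Q → F) (μ : Fin n → ZMod p), μ ≠ 0 ∧ (∀ a ∈ L, ∀ b ∈ L, f (a * b) = f a + f b) ∧ f l ≠ 0 ∧
      (∀ m ∈ L, ∀ k : ℕ, (d.φ ^ k) m ∈ L) ∧
      ∀ m ∈ L, ∑ t : Fin n, ZMod.castHom dvd_rfl F (μ t) * f ((d.φ ^ (t : ℕ)) m) = 0 := by
  classical
  letI : CommGroup L :=
    { (inferInstance : Group L) with mul_comm := fun a b => Subtype.ext ((mem_center_iff.mp (hL b.2)) a.1) }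
  obtain ⟨_i⟩ : Nonempty (Module (ZMod p) (Additive L)) := ⟨AddCommGroup.zmodModule fun x => by
    apply Additive.toMul.injective
    rw [toMul_nsmul, toMul_zero]
    exact Subtype.ext (hexp _ (Additive.toMul x).2)⟩
  haveI : Finite (Additive L) := inferInstanceAs (Finite L)
  let T : Module.End (ZMod p) (Additive L) :=
    ((MonoidHom.mk' (fun m : L => (⟨d.φ m, hφ m m.2⟩ : L)) fun a b => Subtype.ext (_root_.map_mul d.φ (a : Q) b)).toAdditive).toZModLinearMap p
  have hT : ∀ (k : ℕ) (m : L), ((Additive.toMul ((T ^ k) (Additive.ofMul m)) : L) : Q) = (d.φ ^ k) m := by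
    intro k
    induction k with
    | zero => intro m; simp
    | succ k ih =>
      intro m
      rw [pow_succ', Module.End.mul_apply, pow_succ', MulAut.mul_apply, ← ih m]
      rfl
  obtain ⟨f0, hf0⟩ : ∃ f0 : Module.Dual (ZMod p) (Additive L), f0 (Additive.ofMul ⟨l, hl⟩) ≠ 0 := by
    by_contra hc
    push Not at hc
    exact hl1 (congrArg (fun m => ((Additive.toMul m : L) : Q))
      ((Module.forall_dual_apply_eq_zero_iff (ZMod p) _).mp hc))
  have hfin : Module.finrank (ZMod p) (Additive L) < n := by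
    have h1 := Module.natCard_eq_pow_finrank (K := ZMod p) (V := Additive L)
    rw [Nat.card_zmod] at h1
    have h2 : Nat.card (Additive L) < p ^ n := hF ▸ (Nat.card_congr Additive.toMul).trans_lt (d.card_lt L hL hL')
    rw [h1] at h2
    exact (Nat.pow_lt_pow_iff_right (Fact.out (p := p.Prime)).one_lt).mp h2
  have hdep : ¬ LinearIndependent (ZMod p) fun t : Fin n => f0.comp (T ^ (t : ℕ)) := fun h => by
    have := h.fintype_card_le_finrank
    rw [Fintype.card_fin, Subspace.dual_finrank_eq] at this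
    omega
  rw [Fintype.linearIndependent_iff] at hdep
  push Not at hdep
  obtain ⟨μ, hμ, t₀, ht₀⟩ := hdep
  refine ⟨fun m => if h : m ∈ L then ZMod.castHom dvd_rfl F (f0 (Additive.ofMul ⟨m, h⟩)) else 0, μ,
    fun h => ht₀ (congrFun h t₀), fun a ha b hb => ?_, ?_, fun m hm k => ?_, fun m hm => ?_⟩
  · beta_reduce
    rw [dif_pos (mul_mem ha hb), dif_pos ha, dif_pos hb, ← _root_.map_add, ← _root_.map_add]
    rfl
  · beta_reduce
    rw [dif_pos hl, _root_.map_ne_zero]
    exact hf0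
  · exact hT k ⟨m, hm⟩ ▸ (Additive.toMul ((T ^ k) (Additive.ofMul (⟨m, hm⟩ : L)))).2
  · have hkey := congrArg (fun g => ZMod.castHom dvd_rfl F (g (Additive.ofMul (⟨m, hm⟩ : L)))) hμ
    simp only [LinearMap.sum_apply, LinearMap.smul_apply, smul_eq_mul, _root_.map_sum, _root_.map_mul,
      LinearMap.zero_apply, _root_.map_zero, LinearMap.comp_apply] at hkey
    refine Eq.trans (Finset.sum_congr rfl fun t _ => ?_) hkey
    congr 1
    beta_reduce
    have hmem : (d.φ ^ (t : ℕ)) m ∈ L := hT t ⟨m, hm⟩ ▸ (Additive.toMul ((T ^ (t : ℕ)) (Additive.ofMul (⟨m, hm⟩ : L)))).2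
    rw [dif_pos hmem]
    congr 2
    exact Subtype.ext (hT t ⟨m, hm⟩).symm

omit [Finite Q] [Fintype F] in
theorem phi_mem (k : ℕ) {x : Q} (hx : x ∈ _root_.commutator Q) : (d.φ ^ k) x ∈ _root_.commutator Q := by
  rw [← d.ker, d.map_phi_pow, (d.ker x).mpr hx, mul_zero]

omit [Finite Q] [Fintype F] in
theorem map_comm (k : ℕ) (x y : Q) : (d.φ ^ k) ⁅x, y⁆ = ⁅(d.φ ^ k) x, (d.φ ^ k) y⁆ :=
  map_commutatorElement _ x y

omit [Finite Q] in
theorem comm_congr {x x' y : Q} (h : _root_.commutator Q ≤ center Q) (hx : d.ψ x = d.ψ x') : ⁅x, y⁆ = ⁅x', y⁆ := by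
  obtain ⟨u, hu, rfl⟩ : ∃ u ∈ _root_.commutator Q, x' = x * u := ⟨x⁻¹ * x', d.mem_of_eq hx, by group⟩
  have hc : Commute u y := (mem_center_iff.mp (h hu) y).symm
  rw [commutatorElement_mul_left_eq_conj_mul, commutatorElement_eq_one_iff_commute.mpr hc]
  group

variable [Fact p.Prime] [CharP F p]

omit [Finite Q] [Fintype F] in
theorem exponent_commutator (h : _root_.commutator Q ≤ center Q) (m : Q) (hm : m ∈ _root_.commutator Q) : m ^ p = 1 := by
  let S : Subgroup Q :=
    { carrier := {u | u ∈ center Q ∧ u ^ p = 1}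
      mul_mem' := fun {a b} ha hb => ⟨mul_mem ha.1 hb.1, by
        rw [Commute.mul_pow (mem_center_iff.mp hb.1 a), ha.2, hb.2, one_mul]⟩
      one_mem' := ⟨one_mem _, one_pow _⟩
      inv_mem' := fun {a} ha => ⟨inv_mem ha.1, by rw [inv_pow, ha.2, inv_one]⟩ }
  have hle : _root_.commutator Q ≤ S := by
    rw [_root_.commutator_def, commutator_le]
    intro x _ y _
    have hmem : ∀ a b : Q, ⁅a, b⁆ ∈ center Q := fun a b => h (commutator_mem_commutator (mem_top _) (mem_top _))
    refine ⟨hmem x y, ?_⟩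
    have hk : ∀ k : ℕ, ⁅x ^ k, y⁆ = ⁅x, y⁆ ^ k := fun k => by
      induction k with
      | zero => rw [pow_zero, pow_zero, commutatorElement_one_left]
      | succ k ih => rw [pow_succ, comm_mul_left (hmem x y), ih, pow_succ]
    rw [← hk, commutatorElement_eq_one_iff_commute]
    exact (mem_center_iff.mp (h (d.pow_mem x)) y).symm
  exact (hle hm).2

variable (hα : orderOf α = p ^ n - 1) (hn : 0 < n) (hF : Nat.card F = p ^ n)
include hα hn hF

/-- The first step: the twist on a class two group. -/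
theorem step₁ (h : _root_.commutator Q ≤ center Q) :
    _root_.commutator Q = ⊥ ∨ ∃ a : Fin n, (a : ℕ) ≠ 0 ∧ 2 * (a : ℕ) = n ∧
      ∀ x y, ⁅(d.φ ^ p ^ (a : ℕ)) x, (d.φ ^ p ^ (a : ℕ)) y⁆ = ⁅d.φ x, d.φ y⁆ := by
  set L := _root_.commutator Q
  have hφ : ∀ m ∈ L, d.φ m ∈ L := fun m hm => by simpa using d.phi_mem 1 hm
  have hmem : ∀ a b : Q, ⁅a, b⁆ ∈ L := fun a b => commutator_mem_commutator (mem_top _) (mem_top _)
  have build : ∀ {l : Q}, l ∈ L → l ≠ 1 → ∃ (f : Q → F) (μ : Fin n → ZMod p), μ ≠ 0 ∧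
      (∀ a ∈ L, ∀ b ∈ L, f (a * b) = f a + f b) ∧ f l ≠ 0 ∧
      ∃ g : F → F → F, (∀ x x' y, g (x + x') y = g x y + g x' y) ∧ (∀ x y y', g x (y + y') = g x y + g x y') ∧
        (∀ x y : Q, f ⁅x, y⁆ = g (d.ψ x) (d.ψ y)) ∧
        ∀ x y, ∑ t : Fin n, ZMod.castHom dvd_rfl F (μ t) *
          g (((α ^ (t : ℕ) : Fˣ) : F) * x) (((α ^ (t : ℕ) : Fˣ) : F) * y) = 0 := by
    intro l hl hl1
    obtain ⟨f, μ, hμ, hadd, hfl, -, hann⟩ :=
      d.exists_functional hF L h le_rfl (d.exponent_commutator h) hφ hl hl1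
    have hwd : ∀ x y : Q, f ⁅x, y⁆ = f ⁅d.rep (d.ψ x), d.rep (d.ψ y)⁆ := fun x y => by
      rw [d.comm_congr h (d.psi_rep (d.ψ x)).symm, ← commutatorElement_inv y,
        d.comm_congr h (d.psi_rep (d.ψ y)).symm, commutatorElement_inv]
    refine ⟨f, μ, hμ, hadd, hfl, fun u w => f ⁅d.rep u, d.rep w⁆, fun x x' y => ?_, fun x y y' => ?_, hwd, fun x y => ?_⟩
    · rw [← hadd _ (hmem _ _) _ (hmem _ _), ← comm_mul_left (h (hmem _ _)),
        hwd (d.rep x * d.rep x'), d.map_mul, d.psi_rep, d.psi_rep, d.psi_rep]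
    · rw [← hadd _ (hmem _ _) _ (hmem _ _), ← comm_mul_right (h (hmem _ _)),
        hwd (d.rep x) (d.rep y * d.rep y'), d.map_mul, d.psi_rep, d.psi_rep, d.psi_rep]
    · rw [← hann _ (hmem (d.rep x) (d.rep y))]
      refine Finset.sum_congr rfl fun t _ => ?_
      rw [d.map_comm, hwd ((d.φ ^ (t : ℕ)) _), d.map_phi_pow, d.map_phi_pow, d.psi_rep, d.psi_rep]
  by_cases hex : ∃ a : Fin n, (a : ℕ) ≠ 0 ∧ 2 * (a : ℕ) = n
  · obtain ⟨a, ha, ha2⟩ := hex
    refine Or.inr ⟨a, ha, ha2, fun x y => ?_⟩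
    by_contra hne
    set l := ⁅(d.φ ^ p ^ (a : ℕ)) x, (d.φ ^ p ^ (a : ℕ)) y⁆ * ⁅d.φ x, d.φ y⁆⁻¹ with hldef
    have hl : l ∈ L := mul_mem (hmem _ _) (inv_mem (hmem _ _))
    obtain ⟨f, μ, hμ, hadd, hfl, g, hgl, hgr, hg, hann⟩ := build hl fun e => hne (mul_inv_eq_one.mp e)
    refine hfl ?_
    have h1 := hadd l hl _ (hmem (d.φ x) (d.φ y))
    rw [hldef, inv_mul_cancel_right, hg, hg, ← hldef, d.map_phi_pow, d.map_phi_pow, d.equivariant,
      d.equivariant, (key₂ α hα hn hF g hgl hgr μ hμ hann).2 a ha ha2] at h1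
    exact right_eq_add.mp h1
  · refine Or.inl ((_root_.commutator_def Q).trans (le_bot_iff.mp (commutator_le.mpr fun x _ y _ => ?_)))
    rw [mem_bot]
    by_contra hne
    obtain ⟨f, μ, hμ, -, hfl, g, hgl, hgr, hg, hann⟩ := build (hmem x y) hne
    push Not at hex
    exact hfl ((hg x y).trans ((key₂ α hα hn hF g hgl hgr μ hμ hann).1 hex _ _))

omit [Finite Q] [Fintype F] [Fact p.Prime] [CharP F p] hα hn hF in
/-- The datum induced on the quotient by a normal invariant subgroup of the derived subgroup. -/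
noncomputable def quot [Finite Q] (N : Subgroup Q) [N.Normal] (hN : N ≤ _root_.commutator Q)
    (hφ : ∀ m ∈ N, d.φ m ∈ N) : Singer α (Q ⧸ N) where
  ψ := Quotient.lift d.ψ fun x y hxy => by
    have h := (d.ker _).mpr (hN (QuotientGroup.leftRel_apply.mp hxy))
    rw [d.map_mul, d.map_inv, neg_add_eq_zero] at h
    exact h
  φ := MulEquiv.ofBijective (QuotientGroup.map N N d.φ.toMonoidHom fun m hm => hφ m hm)
    (Finite.surjective_iff_bijective.mp fun x => by
      induction x using QuotientGroup.induction_on with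
      | H z => exact ⟨QuotientGroup.mk (d.φ.symm z), congrArg QuotientGroup.mk (d.φ.apply_symm_apply z)⟩)
  map_mul := by rintro ⟨x⟩ ⟨y⟩; exact d.map_mul x y
  surj u := ⟨QuotientGroup.mk (d.rep u), d.psi_rep u⟩
  ker := by
    rintro ⟨x⟩
    refine (d.ker x).trans ?_
    have hmap : _root_.commutator (Q ⧸ N) = (_root_.commutator Q).map (QuotientGroup.mk' N) := by
      rw [_root_.commutator_def, _root_.commutator_def, map_commutator,
        map_top_of_surjective _ (QuotientGroup.mk'_surjective N)]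
    rw [hmap]
    refine ⟨fun hx => ⟨x, hx, rfl⟩, ?_⟩
    rintro ⟨z, hz, hzx⟩
    have h1 := hN (QuotientGroup.eq.mp hzx)
    simpa using mul_mem hz h1
  equivariant := by rintro ⟨x⟩; exact d.equivariant x
  camina := by
    rintro ⟨x⟩ hx u hu
    have hmap : _root_.commutator (Q ⧸ N) = (_root_.commutator Q).map (QuotientGroup.mk' N) := by
      rw [_root_.commutator_def, _root_.commutator_def, map_commutator,
        map_top_of_surjective _ (QuotientGroup.mk'_surjective N)]
    rw [hmap] at hu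
    obtain ⟨w, hw, rfl⟩ := hu
    obtain ⟨y, hy⟩ := d.camina x hx w hw
    exact ⟨QuotientGroup.mk y, congrArg QuotientGroup.mk hy⟩

/-- The second step: no third layer. -/
theorem step₂ (h : ⁅_root_.commutator Q, (⊤ : Subgroup Q)⁆ ≤ center Q) :
    ⁅_root_.commutator Q, (⊤ : Subgroup Q)⁆ = ⊥ := by
  set L := ⁅_root_.commutator Q, (⊤ : Subgroup Q)⁆ with hLdef
  haveI : L.Normal := Subgroup.commutator_normal _ _
  have hLC : L ≤ _root_.commutator Q := commutator_le_left _ _
  have hmem : ∀ {u}, u ∈ _root_.commutator Q → ∀ z, ⁅u, z⁆ ∈ L := fun hu z =>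
    commutator_mem_commutator hu (mem_top z)
  have hφC : ∀ m ∈ _root_.commutator Q, d.φ m ∈ _root_.commutator Q := fun m hm => by simpa using d.phi_mem 1 hm
  have hφ : ∀ m ∈ L, d.φ m ∈ L := by
    have : L ≤ L.comap d.φ.toMonoidHom := by
      conv_lhs => rw [hLdef]
      rw [commutator_le]
      intro u hu z _
      rw [mem_comap, MulEquiv.coe_toMonoidHom, map_commutatorElement]
      exact hmem (hφC u hu) _
    exact fun m hm => this hm
  -- the derived subgroup is commutative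
  have hab : ∀ u ∈ _root_.commutator Q, ∀ w ∈ _root_.commutator Q, ⁅u, w⁆ = 1 := by
    have hR : ⁅⁅(⊤ : Subgroup Q), (⊤ : Subgroup Q)⁆, _root_.commutator Q⁆ = ⊥ := by
      have h1 : ⁅L, (⊤ : Subgroup Q)⁆ = ⊥ := by
        rw [← le_bot_iff, commutator_le]
        intro u hu z _
        rw [mem_bot, commutatorElement_eq_one_iff_commute]
        exact (mem_center_iff.mp (h hu) z).symm
      exact commutator_commutator_eq_bot_of_rotate (by rwa [commutator_comm ⊤ (_root_.commutator Q)]) h1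
    intro u hu w hw
    have := commutator_mem_commutator (H₁ := ⁅(⊤ : Subgroup Q), ⊤⁆) (_root_.commutator_def Q ▸ hu) hw
    rwa [hR, mem_bot] at this
  have hlin : ∀ {u w : Q}, u ∈ _root_.commutator Q → w ∈ _root_.commutator Q → ∀ z, ⁅u * w, z⁆ = ⁅u, z⁆ * ⁅w, z⁆ :=
    fun _ hw z => comm_mul_left (h (hmem hw z))
  have hexp : ∀ m ∈ L, m ^ p = 1 := by
    let S : Subgroup Q :=
      { carrier := {u | u ∈ center Q ∧ u ^ p = 1}
        mul_mem' := fun {a b} ha hb => ⟨mul_mem ha.1 hb.1, by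
          rw [Commute.mul_pow (mem_center_iff.mp hb.1 a), ha.2, hb.2, one_mul]⟩
        one_mem' := ⟨one_mem _, one_pow _⟩
        inv_mem' := fun {a} ha => ⟨inv_mem ha.1, by rw [inv_pow, ha.2, inv_one]⟩ }
    have hle : L ≤ S := by
      rw [hLdef, commutator_le]
      intro u hu z _
      refine ⟨h (hmem hu z), ?_⟩
      have hk : ∀ k : ℕ, ⁅u, z ^ k⁆ = ⁅u, z⁆ ^ k := fun k => by
        induction k with
        | zero => rw [pow_zero, pow_zero, commutatorElement_one_right]
        | succ k ih => rw [pow_succ, comm_mul_right (h (hmem hu z)), ih, pow_succ]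
      rw [← hk]
      exact hab u hu _ (d.pow_mem z)
    exact fun m hm => (hle hm).2
  by_contra hL0
  -- a nontrivial triple commutator
  obtain ⟨x, y, z, hne⟩ : ∃ x y z : Q, ⁅⁅x, y⁆, z⁆ ≠ 1 := by
    by_contra hc
    push Not at hc
    have h1 : _root_.commutator Q ≤ center Q := by
      rw [_root_.commutator_def, commutator_le]
      exact fun a _ b _ => mem_center_iff.mpr fun z => (commutatorElement_eq_one_iff_commute.mp (hc a b z)).eq.symm
    refine hL0 (le_bot_iff.mp (commutator_le.mpr fun u hu z _ => ?_))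
    rw [mem_bot, commutatorElement_eq_one_iff_commute]
    exact (mem_center_iff.mp (h1 hu) z).symm
  -- the twist modulo `L`
  have hcent : _root_.commutator (Q ⧸ L) ≤ center (Q ⧸ L) := by
    rw [_root_.commutator_def, commutator_le]
    rintro ⟨a⟩ _ ⟨b⟩ _
    rw [mem_center_iff]
    rintro ⟨c⟩
    refine Eq.symm (QuotientGroup.eq.mpr ?_)
    have h1 : ⁅⁅a, b⁆⁻¹, c⁻¹⁆ ∈ L := hmem (inv_mem (commutator_mem_commutator (mem_top _) (mem_top _))) _
    have h2 := inv_mem h1
    rw [commutatorElement_inv] at h2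
    simp only [commutatorElement_def, inv_inv] at h2 ⊢
    convert h2 using 1
    group
  rcases (d.quot L hLC hφ).step₁ hα hn hF hcent with hbot | ⟨a, ha, ha2, htw⟩
  · refine hL0 (le_bot_iff.mp (commutator_le.mpr fun u hu w _ => ?_))
    rw [mem_bot, commutatorElement_eq_one_iff_commute]
    have hu' : (QuotientGroup.mk u : Q ⧸ L) ∈ _root_.commutator (Q ⧸ L) := by
      have h2 : (_root_.commutator Q).map (QuotientGroup.mk' L) ≤ _root_.commutator (Q ⧸ L) := by
        rw [_root_.commutator_def, _root_.commutator_def, map_commutator]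
        exact commutator_mono le_top le_top
      exact h2 ⟨u, hu, rfl⟩
    rw [hbot, mem_bot, QuotientGroup.eq_one_iff] at hu'
    exact (mem_center_iff.mp (h hu') w).symm
  obtain ⟨f, μ, hμ, hadd, hfl, -, hann⟩ :=
    d.exists_functional hF L h hLC hexp hφ (hmem (commutator_mem_commutator (mem_top x) (mem_top y)) z) hne
  refine hfl ?_
  have hC : ∀ a b : Q, ⁅a, b⁆ ∈ _root_.commutator Q := fun a b => commutator_mem_commutator (mem_top _) (mem_top _)
  have hT : ∀ a b c : Q, ⁅⁅a, b⁆, c⁆ ∈ L := fun a b c => hmem (hC a b) c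
  -- the triple commutator is additive and depends only on classes
  have hadd₁ : ∀ a a' b c : Q, ⁅⁅a * a', b⁆, c⁆ = ⁅⁅a, b⁆, c⁆ * ⁅⁅a', b⁆, c⁆ := by
    intro a a' b c
    rw [commutatorElement_mul_left_eq_conj_mul, hlin (Subgroup.Normal.conj_mem inferInstance _ (hC _ _) _) (hC _ _),
      show a * ⁅a', b⁆ * a⁻¹ = ⁅a, ⁅a', b⁆⁆ * ⁅a', b⁆ by simp only [commutatorElement_def]; group,
      hlin (hC _ _) (hC _ _)]
    have h1 : ⁅a, ⁅a', b⁆⁆ ∈ L := by
      rw [← commutatorElement_inv]; exact inv_mem (hmem (hC _ _) _)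
    rw [commutatorElement_eq_one_iff_commute.mpr ((mem_center_iff.mp (h h1) c).symm), one_mul]
    exact (mem_center_iff.mp (h (hT a b c)) _)
  have hadd₂ : ∀ a b b' c : Q, ⁅⁅a, b * b'⁆, c⁆ = ⁅⁅a, b⁆, c⁆ * ⁅⁅a, b'⁆, c⁆ := by
    intro a b b' c
    have e : ⁅a, b * b'⁆ = ⁅a, b⁆ * (⁅b, ⁅a, b'⁆⁆ * ⁅a, b'⁆) := by simp only [commutatorElement_def]; group
    rw [e, hlin (hC _ _) (mul_mem (hC _ _) (hC _ _)), hlin (hC _ _) (hC _ _)]
    have h1 : ⁅b, ⁅a, b'⁆⁆ ∈ L := by
      rw [← commutatorElement_inv]; exact inv_mem (hmem (hC _ _) _)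
    rw [commutatorElement_eq_one_iff_commute.mpr ((mem_center_iff.mp (h h1) c).symm), one_mul]
  have hadd₃ : ∀ a b c c' : Q, ⁅⁅a, b⁆, c * c'⁆ = ⁅⁅a, b⁆, c⁆ * ⁅⁅a, b⁆, c'⁆ :=
    fun a b c c' => comm_mul_right (h (hT a b c'))
  have hzero₁ : ∀ {u : Q}, u ∈ _root_.commutator Q → ∀ b c : Q, ⁅⁅u, b⁆, c⁆ = 1 := fun hu b c =>
    commutatorElement_eq_one_iff_commute.mpr ((mem_center_iff.mp (h (hmem hu b)) c).symm)
  have hzero₂ : ∀ {u : Q}, u ∈ _root_.commutator Q → ∀ a c : Q, ⁅⁅a, u⁆, c⁆ = 1 := fun hu a c => by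
    refine commutatorElement_eq_one_iff_commute.mpr ((mem_center_iff.mp ?_ c).symm)
    rw [← commutatorElement_inv]
    exact h (inv_mem (hmem hu a))
  have hwd : ∀ a b c : Q, ⁅⁅a, b⁆, c⁆ = ⁅⁅d.rep (d.ψ a), d.rep (d.ψ b)⁆, d.rep (d.ψ c)⁆ := by
    intro a b c
    obtain ⟨u, hu, ea⟩ : ∃ u ∈ _root_.commutator Q, a = d.rep (d.ψ a) * u :=
      ⟨_, d.mem_of_eq (d.psi_rep (d.ψ a)), by group⟩
    obtain ⟨v, hv, eb⟩ : ∃ v ∈ _root_.commutator Q, b = d.rep (d.ψ b) * v :=
      ⟨_, d.mem_of_eq (d.psi_rep (d.ψ b)), by group⟩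
    obtain ⟨w, hw, ec⟩ : ∃ w ∈ _root_.commutator Q, c = d.rep (d.ψ c) * w :=
      ⟨_, d.mem_of_eq (d.psi_rep (d.ψ c)), by group⟩
    conv_lhs => rw [ea, eb, ec]
    rw [hadd₁, hzero₁ hu, mul_one, hadd₂, hzero₂ hv, mul_one, hadd₃, hab _ (hC _ _) w hw, mul_one]
  set g : F → F → F → F := fun u v w => f ⁅⁅d.rep u, d.rep v⁆, d.rep w⁆ with hgdef
  have hg : ∀ a b c, f ⁅⁅a, b⁆, c⁆ = g (d.ψ a) (d.ψ b) (d.ψ c) := fun a b c => by rw [hwd a b c]
  have g1 : ∀ u u' v w, g (u + u') v w = g u v w + g u' v w := fun u u' v w => by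
    have := congrArg f (hadd₁ (d.rep u) (d.rep u') (d.rep v) (d.rep w))
    rwa [hadd _ (hT _ _ _) _ (hT _ _ _), hg, hg, hg, d.map_mul, d.psi_rep, d.psi_rep, d.psi_rep, d.psi_rep] at this
  have g2 : ∀ u v v' w, g u (v + v') w = g u v w + g u v' w := fun u v v' w => by
    have := congrArg f (hadd₂ (d.rep u) (d.rep v) (d.rep v') (d.rep w))
    rwa [hadd _ (hT _ _ _) _ (hT _ _ _), hg, hg, hg, d.map_mul, d.psi_rep, d.psi_rep, d.psi_rep, d.psi_rep] at this
  have g3 : ∀ u v w w', g u v (w + w') = g u v w + g u v w' := fun u v w w' => by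
    have := congrArg f (hadd₃ (d.rep u) (d.rep v) (d.rep w) (d.rep w'))
    rwa [hadd _ (hT _ _ _) _ (hT _ _ _), hg, hg, hg, d.map_mul, d.psi_rep, d.psi_rep, d.psi_rep, d.psi_rep] at this
  have gann : ∀ u v w, ∑ t : Fin n, ZMod.castHom dvd_rfl F (μ t) * g (((α ^ (t : ℕ) : Fˣ) : F) * u)
      (((α ^ (t : ℕ) : Fˣ) : F) * v) (((α ^ (t : ℕ) : Fˣ) : F) * w) = 0 := by
    intro u v w
    rw [← hann _ (hT (d.rep u) (d.rep v) (d.rep w))]
    refine Finset.sum_congr rfl fun t _ => ?_
    rw [d.map_comm, d.map_comm, hg, d.map_phi_pow, d.map_phi_pow, d.map_phi_pow, d.psi_rep, d.psi_rep, d.psi_rep]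
  have ginv : ∀ u v w, g (((α ^ p ^ (a : ℕ) : Fˣ) : F) * u) (((α ^ p ^ (a : ℕ) : Fˣ) : F) * v) w =
      g ((α : F) * u) ((α : F) * v) w := by
    intro u v w
    set A := p ^ (a : ℕ)
    have hq : ∀ (k : ℕ) (x : Q), ((d.quot L hLC hφ).φ ^ k) (QuotientGroup.mk x) = QuotientGroup.mk ((d.φ ^ k) x) := by
      intro k
      induction k with
      | zero => intro x; simp
      | succ k ih => intro x; rw [pow_succ', MulAut.mul_apply, ih, pow_succ', MulAut.mul_apply]; rfl
    have h0 := htw (QuotientGroup.mk (d.rep u)) (QuotientGroup.mk (d.rep v))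
    rw [hq, hq, show (d.quot L hLC hφ).φ (QuotientGroup.mk (d.rep u)) = QuotientGroup.mk (d.φ (d.rep u)) from rfl,
      show (d.quot L hLC hφ).φ (QuotientGroup.mk (d.rep v)) = QuotientGroup.mk (d.φ (d.rep v)) from rfl] at h0
    have hmk : ∀ s t : Q, (QuotientGroup.mk ⁅s, t⁆ : Q ⧸ L) = ⁅(QuotientGroup.mk s : Q ⧸ L), QuotientGroup.mk t⁆ :=
      fun s t => map_commutatorElement (QuotientGroup.mk' L) s t
    rw [← hmk, ← hmk] at h0
    have h1 := QuotientGroup.eq.mp h0
    have h2 : ⁅⁅(d.φ ^ A) (d.rep u), (d.φ ^ A) (d.rep v)⁆, d.rep w⁆ = ⁅⁅d.φ (d.rep u), d.φ (d.rep v)⁆, d.rep w⁆ := by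
      conv_rhs => rw [← mul_inv_cancel_left ⁅(d.φ ^ A) (d.rep u), (d.φ ^ A) (d.rep v)⁆ ⁅d.φ (d.rep u), d.φ (d.rep v)⁆]
      rw [hlin (hC _ _) (hLC h1), commutatorElement_eq_one_iff_commute.mpr ((mem_center_iff.mp (h h1) _).symm), mul_one]
    have h3 := congrArg f h2
    rw [hg, hg, d.map_phi_pow, d.map_phi_pow, d.equivariant, d.equivariant, d.psi_rep, d.psi_rep, d.psi_rep] at h3
    exact h3
  exact (hg x y z).trans (key₃ α hα hn hF g g1 g2 g3 μ hμ gann a ha ha2 ginv _ _ _)

/-- **Class two and small exponent.** -/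
theorem main (hQ : IsPGroup p Q) :
    _root_.commutator Q ≤ center Q ∧ (p ≠ 2 → ∀ x : Q, x ^ p = 1) ∧ (p = 2 → ∀ x : Q, x ^ 4 = 1) := by
  haveI := hQ.isNilpotent
  set L := ⁅_root_.commutator Q, (⊤ : Subgroup Q)⁆ with hLdef
  haveI : L.Normal := Subgroup.commutator_normal _ _
  set K := ⁅L, (⊤ : Subgroup Q)⁆ with hKdef
  haveI : K.Normal := Subgroup.commutator_normal _ _
  have hKL : K ≤ L := commutator_le_left _ _
  have hKC : K ≤ _root_.commutator Q := hKL.trans (commutator_le_left _ _)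
  have hφK : ∀ m ∈ K, d.φ m ∈ K := by
    have hmapC : (_root_.commutator Q).map d.φ.toMonoidHom = _root_.commutator Q := by
      rw [_root_.commutator_def, map_commutator, map_top_of_surjective _ d.φ.surjective]
    have : K.map d.φ.toMonoidHom = K := by
      rw [hKdef, hLdef, map_commutator, map_commutator, hmapC, map_top_of_surjective _ d.φ.surjective]
    exact fun m hm => this ▸ mem_map_of_mem _ hm
  have hL : L = ⊥ := by
    have hLK : L ≤ K := by
      set π := QuotientGroup.mk' K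
      have hmapL : L.map π = ⁅_root_.commutator (Q ⧸ K), (⊤ : Subgroup (Q ⧸ K))⁆ := by
        rw [hLdef, _root_.commutator_def, _root_.commutator_def, map_commutator, map_commutator,
          map_top_of_surjective _ (QuotientGroup.mk'_surjective K)]
      have hcent : L.map π ≤ center (Q ⧸ K) := by
        rintro _ ⟨u, hu, rfl⟩
        rw [mem_center_iff]
        rintro ⟨c⟩
        refine Eq.symm (QuotientGroup.eq.mpr ?_)
        have h1 : ⁅u⁻¹, c⁻¹⁆ ∈ K := commutator_mem_commutator (inv_mem hu) (mem_top _)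
        have h2 := inv_mem h1
        rw [commutatorElement_inv] at h2
        simp only [commutatorElement_def, inv_inv] at h2 ⊢
        convert h2 using 1
        group
      have h0 := (d.quot K hKC hφK).step₂ hα hn hF (hmapL ▸ hcent)
      rw [← hmapL, Subgroup.map_eq_bot_iff, QuotientGroup.ker_mk'] at h0
      exact h0
    by_contra hne
    exact Cfsg.Lib.PGroup.commutator_ne_self_of_isNilpotent (P := (⊤ : Subgroup Q)) hne (le_antisymm hKL hLK)
  have hc : _root_.commutator Q ≤ center Q := fun u hu => mem_center_iff.mpr fun z => by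
    have : ⁅u, z⁆ ∈ L := commutator_mem_commutator hu (mem_top z)
    rw [hL, mem_bot, commutatorElement_eq_one_iff_commute] at this
    exact this.eq.symm
  refine ⟨hc, fun hp2 x => ?_, fun hp2 x => ?_⟩
  · -- the power map is linear
    have hC : ∀ a b : Q, ⁅a, b⁆ ∈ _root_.commutator Q := fun a b => commutator_mem_commutator (mem_top _) (mem_top _)
    have hpow : ∀ (a b : Q) (k : ℕ), (a * b) ^ k = a ^ k * b ^ k * ⁅b, a⁆ ^ (k.choose 2) := by
      intro a b k
      induction k with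
      | zero => simp
      | succ k ih =>
        have hz : ∀ w, Commute (⁅b, a⁆ ^ (k.choose 2)) w := fun w =>
          (mem_center_iff.mp (_root_.pow_mem (hc (hC b a)) _) w).symm
        have hba : b ^ k * a = a * b ^ k * ⁅b, a⁆ ^ k := by
          clear ih hz
          induction k with
          | zero => simp
          | succ k ih =>
            have hc1 : ∀ w, Commute ⁅b, a⁆ w := fun w => (mem_center_iff.mp (hc (hC b a)) w).symm
            calc b ^ (k + 1) * a = b * (b ^ k * a) := by rw [pow_succ', mul_assoc]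
              _ = b * a * b ^ k * ⁅b, a⁆ ^ k := by rw [ih]; simp only [mul_assoc]
              _ = ⁅b, a⁆ * (a * b) * b ^ k * ⁅b, a⁆ ^ k := by simp only [commutatorElement_def]; group
              _ = a * b ^ (k + 1) * ⁅b, a⁆ ^ (k + 1) := by
                rw [(hc1 (a * b)).eq, mul_assoc (a * b), (hc1 (b ^ k)).eq]
                simp only [pow_succ', mul_assoc]
        calc (a * b) ^ (k + 1) = a ^ k * b ^ k * ⁅b, a⁆ ^ (k.choose 2) * (a * b) := by rw [pow_succ, ih]
          _ = a ^ k * (b ^ k * a) * b * ⁅b, a⁆ ^ (k.choose 2) := by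
            rw [mul_assoc, (hz (a * b)).eq]; simp only [mul_assoc]
          _ = a ^ (k + 1) * b ^ (k + 1) * ⁅b, a⁆ ^ ((k + 1).choose 2) := by
            rw [hba, Nat.choose_succ_succ', Nat.choose_one_right, pow_succ a k, pow_succ b k, pow_add ⁅b, a⁆ k]
            have hk : ∀ w, Commute (⁅b, a⁆ ^ k) w := fun w =>
              (mem_center_iff.mp (_root_.pow_mem (hc (hC b a)) _) w).symm
            simp only [mul_assoc]
            rw [← mul_assoc (⁅b, a⁆ ^ k) b, (hk b).eq, mul_assoc]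
    have hpr : p.Prime := Fact.out
    obtain ⟨k, hk⟩ := Nat.Prime.dvd_choose_self hpr (k := 2) (by norm_num) (lt_of_le_of_ne hpr.two_le (Ne.symm hp2))
    have hmul : ∀ a b : Q, (a * b) ^ p = a ^ p * b ^ p := fun a b => by
      rw [hpow, hk, pow_mul, d.exponent_commutator hc _ (hC b a), one_pow, mul_one]
    by_contra hne
    obtain ⟨f, μ, hμ, hadd, hfl, -, hann⟩ := d.exists_functional hF (_root_.commutator Q) hc le_rfl
      (d.exponent_commutator hc) (fun m hm => by simpa using d.phi_mem 1 hm) (d.pow_mem x) hne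
    refine hfl ?_
    have hwd : ∀ a : Q, a ^ p = d.rep (d.ψ a) ^ p := fun a => by
      conv_lhs => rw [← mul_inv_cancel_left (d.rep (d.ψ a)) a]
      rw [hmul, d.exponent_commutator hc _ (d.mem_of_eq (d.psi_rep (d.ψ a))), mul_one]
    have hgadd : ∀ u v : F, f (d.rep (u + v) ^ p) = f (d.rep u ^ p) + f (d.rep v ^ p) := fun u v => by
      rw [← hadd _ (d.pow_mem _) _ (d.pow_mem _), ← hmul, hwd (d.rep u * d.rep v), d.map_mul, d.psi_rep, d.psi_rep]
    rw [hwd x]
    refine key₁ α hα hn hF (fun u => f (d.rep u ^ p)) hgadd μ hμ (fun u => ?_) _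
    rw [← hann _ (d.pow_mem (d.rep u))]
    refine Finset.sum_congr rfl fun t _ => ?_
    rw [_root_.map_pow, hwd ((d.φ ^ (t : ℕ)) (d.rep u)), d.map_phi_pow, d.psi_rep]
  · subst hp2
    rw [show (4 : ℕ) = 2 * 2 from rfl, pow_mul]
    exact d.exponent_commutator hc _ (d.pow_mem x)

end Singer

end Cfsg.Lib.FPF
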