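import Mathlib.Algebra.BigOperators.Fin
import Mathlib.Algebra.Ring.GeomSum
import Mathlib.Algebra.BigOperators.ModEq
import Mathlib.Data.Nat.ModEq
import Mathlib.Tactic

/-!
# Digit vectors modulo `p ^ n - 1`
-/

set_option autoImplicit false

namespace Cfsg.Lib.FPF

variable {p n : ℕ}

/-- The number with digit vector `f`. -/
def ev (p : ℕ) (f : Fin n → ℕ) : ℕ := ∑ i : Fin n, f i * p ^ (i : ℕ)

theorem ev_single (i : Fin n) (c : ℕ) : ev p (Pi.single i c) = c * p ^ (i : ℕ) := by
  rw [ev, Fintype.sum_eq_single i fun k hk => by rw [Pi.single_eq_of_ne hk, zero_mul],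
    Pi.single_eq_same]

theorem ev_add (f g : Fin n → ℕ) : ev p (f + g) = ev p f + ev p g := by
  simp [ev, add_mul, Finset.sum_add_distrib]

theorem pow_modEq (hp : 1 ≤ p) : p ^ n ≡ 1 [MOD p ^ n - 1] :=
  ((Nat.modEq_iff_dvd' (Nat.one_le_pow _ _ hp)).mpr dvd_rfl).symm

theorem pow_add_modEq [NeZero n] (hp : 1 ≤ p) (i b : Fin n) :
    p ^ ((i : ℕ) + (b : ℕ)) ≡ p ^ ((i + b : Fin n) : ℕ) [MOD p ^ n - 1] := by
  rw [Fin.val_add]
  conv_lhs => rw [← Nat.div_add_mod ((i : ℕ) + b) n, pow_add, pow_mul]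
  simpa using ((pow_modEq hp).pow (((i : ℕ) + b) / n)).mul_right (p ^ (((i : ℕ) + b) % n))

theorem ev_mul_modEq [NeZero n] (hp : 1 ≤ p) (f : Fin n → ℕ) (b : Fin n) :
    ev p f * p ^ (b : ℕ) ≡ ev p (fun k => f (k - b)) [MOD p ^ n - 1] := by
  have h : ev p (fun k => f (k - b)) = ∑ i : Fin n, f i * p ^ ((i + b : Fin n) : ℕ) := by
    rw [ev]
    exact (Fintype.sum_equiv (Equiv.addRight b) _ _ fun i => by simp).symm
  rw [h, ev, Finset.sum_mul]
  refine Nat.ModEq.sum fun i _ => ?_
  rw [mul_assoc, ← pow_add]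
  exact (pow_add_modEq hp i b).mul_left _

theorem ev_lt (f : Fin n → ℕ) (hf : ∀ i, f i < p) (hne : ∃ i, f i ≠ p - 1) : ev p f < p ^ n - 1 := by
  let e := finFunctionFinEquiv (m := p) (n := n)
  let F : Fin n → Fin p := fun i => ⟨f i, hf i⟩
  obtain ⟨i₀, hi₀⟩ := hne
  have hp : 1 ≤ p := (Nat.zero_le _).trans_lt (hf i₀)
  let M : Fin n → Fin p := fun _ => ⟨p - 1, by omega⟩
  have hF : ev p f = (e F : ℕ) := (finFunctionFinEquiv_apply F).symm
  have hM : p ^ n - 1 = (e M : ℕ) := by
    rw [finFunctionFinEquiv_apply, Fin.sum_univ_eq_sum_range (fun i => (p - 1) * p ^ i), ← Finset.mul_sum,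
      mul_comm, geom_sum_mul_of_one_le hp]
  have hlt := (e F).isLt
  have hne' : ev p f ≠ p ^ n - 1 := fun h => by
    rw [hF, hM] at h
    exact hi₀ (congrArg Fin.val (congrFun (e.injective (Fin.ext h)) i₀))
  omega

theorem digits_eq {f g : Fin n → ℕ} (hf : ∀ i, f i < p) (hfn : ∃ i, f i ≠ p - 1) (hg : ∀ i, g i < p)
    (hgn : ∃ i, g i ≠ p - 1) (h : ev p f ≡ ev p g [MOD p ^ n - 1]) : f = g := by
  have he : ev p f = ev p g := Nat.ModEq.eq_of_lt_of_lt h (ev_lt f hf hfn) (ev_lt g hg hgn)
  have := (finFunctionFinEquiv (m := p) (n := n)).injective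
    (a₁ := fun i => ⟨f i, hf i⟩) (a₂ := fun i => ⟨g i, hg i⟩) (Fin.ext (by
      rw [finFunctionFinEquiv_apply, finFunctionFinEquiv_apply]; exact he))
  exact funext fun i => congrArg Fin.val (congrFun this i)

theorem shift_eq [NeZero n] {f : Fin n → ℕ} (b : Fin n) (hf : ∀ i, f i < p) (hfn : ∃ i, f i ≠ p - 1)
    (h : ev p f * p ^ (b : ℕ) ≡ ev p f [MOD p ^ n - 1]) (k : Fin n) : f (k + b) = f k := by
  obtain ⟨i, hi⟩ := hfn
  have hp : 1 ≤ p := (Nat.zero_le _).trans_lt (hf i)
  have h1 := digits_eq (f := fun k => f (k - b)) (fun i => hf _) ⟨i + b, by simpa using hi⟩ hf ⟨i, hi⟩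
    ((ev_mul_modEq hp f b).symm.trans h)
  simpa using (congrFun h1 (k + b)).symm

/-- A single power is moved by every nontrivial shift. -/
theorem single_shift [NeZero n] (hp : 2 ≤ p) (i b : Fin n) (hb : b ≠ 0)
    (h : p ^ (i : ℕ) * p ^ (b : ℕ) ≡ p ^ (i : ℕ) [MOD p ^ n - 1]) : False := by
  have hib : i + b ≠ i := fun e => hb (add_eq_left.mp e)
  have := shift_eq (p := p) (f := Pi.single i 1) b
    (fun k => by rcases eq_or_ne k i with rfl | hk <;> simp [*] <;> omega)
    ⟨i + b, by rw [Pi.single_eq_of_ne hib]; omega⟩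
    (by rw [ev_single, one_mul]; exact h) i
  rw [Pi.single_eq_of_ne hib, Pi.single_eq_same] at this
  omega

theorem eq_of_two {b c : Fin n} [NeZero n] (hb : b ≠ 0) (hb2 : b + b = 0) (hc : c ≠ 0) (hc2 : c + c = 0) :
    b = c := by
  have key : ∀ x : Fin n, x ≠ 0 → x + x = 0 → (x : ℕ) + x = n := by
    intro x hx hx2
    have h := congrArg Fin.val hx2
    rw [Fin.val_add, Fin.val_zero] at h
    obtain ⟨d, hd⟩ := Nat.dvd_of_mod_eq_zero h
    have := x.isLt
    have : (x : ℕ) ≠ 0 := fun h0 => hx (Fin.ext h0)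
    rcases d with _ | _ | d
    · omega
    · omega
    · nlinarith
  exact Fin.ext (by have := key b hb hb2; have := key c hc hc2; omega)

theorem fin_two_pair : ∀ i j b : Fin 2, b ≠ 0 → i ≠ j → b + b = 0 ∧ j = i + b := by decide

/-- A sum of two powers fixed by a nontrivial shift. -/
theorem pair_shift [NeZero n] (hp : 2 ≤ p) (i j b : Fin n) (hb : b ≠ 0)
    (h : (p ^ (i : ℕ) + p ^ (j : ℕ)) * p ^ (b : ℕ) ≡ p ^ (i : ℕ) + p ^ (j : ℕ) [MOD p ^ n - 1]) :
    i ≠ j ∧ b + b = 0 ∧ j = i + b := by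
  have hne : i ≠ j := by
    rintro rfl
    rcases Nat.lt_or_ge p 3 with hp2 | hp3
    · obtain rfl : p = 2 := by omega
      have hn : 1 < n := by
        by_contra hn
        exact hb (Fin.ext (by have := b.isLt; simp; omega))
      have h1 : 2 ^ (i : ℕ) + 2 ^ (i : ℕ) = 2 ^ ((i : ℕ) + ((1 : Fin n) : ℕ)) := by
        rw [Fin.val_one', Nat.one_mod_eq_one.mpr (by omega), pow_succ]; ring
      have h2 := pow_add_modEq (p := 2) (by omega) i 1
      rw [h1] at h
      exact single_shift le_rfl (i + 1) b hb ((h2.mul_right _).symm.trans (h.trans h2))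
    · have hib : i + b ≠ i := fun e => hb (add_eq_left.mp e)
      have := shift_eq (p := p) (f := Pi.single i 2) b
        (fun k => by rcases eq_or_ne k i with rfl | hk <;> simp [*] <;> omega)
        ⟨i + b, by rw [Pi.single_eq_of_ne hib]; omega⟩
        (by rw [ev_single, two_mul]; exact h) i
      rw [Pi.single_eq_of_ne hib, Pi.single_eq_same] at this
      omega
  refine ⟨hne, ?_⟩
  set f : Fin n → ℕ := Pi.single i 1 + Pi.single j 1 with hf
  by_cases hfn : ∃ k, f k ≠ p - 1
  · have hlt : ∀ k, f k < p := fun k => by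
      rcases eq_or_ne k i with rfl | hk
      · simp [hf, hne]; omega
      · rcases eq_or_ne k j with rfl | hk' <;> simp [hf, *] <;> omega
    have hs := shift_eq b hlt hfn (by rw [hf, ev_add, ev_single, ev_single, one_mul, one_mul]; exact h)
    have hmem : ∀ k, f k ≠ 0 → k = i ∨ k = j := fun k hk => by
      by_contra hc; push Not at hc; simp [hf, hc.1, hc.2] at hk
    have hfi : f i ≠ 0 := by simp [hf]
    have hfj : f j ≠ 0 := by simp [hf]
    have h1 : i + b = j := ((hmem _ (by rw [hs]; exact hfi)).resolve_left fun e => hb (add_eq_left.mp e))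
    have h2 : j + b = i := ((hmem _ (by rw [hs]; exact hfj)).resolve_right fun e => hb (add_eq_left.mp e))
    exact ⟨(add_eq_left (a := i)).mp (by rw [← add_assoc, h1, h2]), h1.symm⟩
  · push Not at hfn
    -- all digits maximal: `p = 2` and `n = 2`
    have hp2 : p = 2 := by have := hfn i; simp [hf, hne] at this; omega
    have hn : n = 2 := by
      have hcov : ∀ k : Fin n, k = i ∨ k = j := fun k => by
        by_contra hc; push Not at hc
        have := hfn k; simp [hf, hc.1, hc.2] at this; omega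
      have : Fintype.card (Fin n) ≤ ({i, j} : Finset (Fin n)).card :=
        Finset.card_le_card (s := Finset.univ) fun k _ => by simp [hcov k]
      rw [Fintype.card_fin, Finset.card_pair hne] at this
      have := Fin.val_injective.ne hne
      omega
    subst hn
    exact fin_two_pair i j b hb hne

/-- No sum of three powers of the relevant shape is fixed by a nontrivial shift. -/
theorem triple_shift [NeZero n] (hp : 2 ≤ p) (i k a b : Fin n) (ha : a ≠ 0) (ha2 : a + a = 0) (hb : b ≠ 0)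
    (h : (p ^ (i : ℕ) + p ^ ((i + a : Fin n) : ℕ) + p ^ (k : ℕ)) * p ^ (b : ℕ) ≡
      p ^ (i : ℕ) + p ^ ((i + a : Fin n) : ℕ) + p ^ (k : ℕ) [MOD p ^ n - 1]) : False := by
  set j := i + a with hj
  have hji : j ≠ i := fun e => ha (add_eq_left.mp e)
  have hja : j + a = i := by rw [hj, add_assoc, ha2, add_zero]
  have two : ∀ x : Fin n, x = i ∨ x = j →
      ∀ y : Fin n, y = x + a → (p ^ (x : ℕ) + p ^ (x : ℕ) + p ^ (y : ℕ)) * p ^ (b : ℕ) ≡
      p ^ (x : ℕ) + p ^ (x : ℕ) + p ^ (y : ℕ) [MOD p ^ n - 1] → False := by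
    intro x _ y hy hh
    have hyx : y ≠ x := fun e => ha (add_eq_left.mp (hy.symm.trans e))
    rcases Nat.lt_or_ge p 3 with hp2 | hp3
    · obtain rfl : p = 2 := by omega
      have hn : 1 < n := by
        by_contra hn
        exact hb (Fin.ext (by have := b.isLt; simp; omega))
      have h1 : 2 ^ (x : ℕ) + 2 ^ (x : ℕ) = 2 ^ ((x : ℕ) + ((1 : Fin n) : ℕ)) := by
        rw [Fin.val_one', Nat.one_mod_eq_one.mpr (by omega), pow_succ]; ring
      have h2 := (pow_add_modEq (p := 2) (by omega) x 1).add_right (2 ^ (y : ℕ))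
      rw [h1] at hh
      obtain ⟨-, hbb, hy'⟩ := pair_shift le_rfl (x + 1) y b hb ((h2.mul_right _).symm.trans (hh.trans h2))
      rw [eq_of_two hb hbb ha ha2, hy] at hy'
      have h1 : (1 : Fin n) = 0 := by
        have := add_right_cancel hy'
        exact add_eq_left.mp this.symm
      have := congrArg Fin.val h1
      rw [Fin.val_one', Nat.one_mod_eq_one.mpr (by omega), Fin.val_zero] at this
      omega
    · set f : Fin n → ℕ := Pi.single x 2 + Pi.single y 1 with hf
      have hlt : ∀ z, f z < p := fun z => by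
        rcases eq_or_ne z x with hz | hz
        · simp [hf, hz, hyx.symm]; omega
        · rcases eq_or_ne z y with hz' | hz'
          · simp [hf, hz', hyx]; omega
          · simp [hf, hz, hz']; omega
      have hs := shift_eq b hlt ⟨y, by simp [hf, hyx]; omega⟩
        (by rw [hf, ev_add, ev_single, ev_single, one_mul, two_mul]; exact hh) x
      have hfx : f x = 2 := by simp [hf, hyx.symm]
      have hxb : x + b ≠ x := fun e => hb (add_eq_left.mp e)
      rw [hfx] at hs
      rcases eq_or_ne (x + b) y with e | e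
      · simp [hf, e, hyx] at hs
      · simp [hf, e, hxb] at hs
  rcases eq_or_ne k i with rfl | hki
  · exact two k (Or.inl rfl) j hj (by rwa [add_right_comm] at h)
  rcases eq_or_ne k j with hkj | hkj
  · subst hkj
    refine two j (Or.inr rfl) i hja.symm ?_
    have e : p ^ (j : ℕ) + p ^ (j : ℕ) + p ^ (i : ℕ) = p ^ (i : ℕ) + p ^ (j : ℕ) + p ^ (j : ℕ) := by ring
    rw [e]; exact h
  set f : Fin n → ℕ := Pi.single i 1 + Pi.single j 1 + Pi.single k 1 with hf
  have hlt : ∀ z, f z < p := fun z => by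
    rcases eq_or_ne z i with hz | hz
    · simp [hf, hz, hki.symm, hji.symm]; omega
    · rcases eq_or_ne z j with hz' | hz'
      · simp [hf, hz', hkj.symm, hji]; omega
      · rcases eq_or_ne z k with hz'' | hz''
        · simp [hf, hz'', hki, hkj]; omega
        · simp [hf, hz, hz', hz'']; omega
  have hmem : ∀ z, f z ≠ 0 → z = i ∨ z = j ∨ z = k := fun z hz => by
    by_contra hc; push Not at hc; simp [hf, hc.1, hc.2.1, hc.2.2] at hz
  have hfn : ∃ z, f z ≠ p - 1 := by
    refine ⟨k + a, ?_⟩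
    have h1 : k + a ≠ i := fun e => hkj (by rw [hj, ← e, add_assoc, ha2, add_zero])
    have h2 : k + a ≠ j := fun e => hki (add_right_cancel e)
    have h3 : k + a ≠ k := fun e => ha (add_eq_left.mp e)
    simp [hf, h1, h2, h3]; omega
  have hs := shift_eq b hlt hfn
    (by rw [hf, ev_add, ev_add, ev_single, ev_single, ev_single, one_mul, one_mul, one_mul]; exact h)
  have m : ∀ z, z = i ∨ z = j ∨ z = k → (z + b = i ∨ z + b = j ∨ z + b = k) := fun z hz => hmem _ (by
    rw [hs]; rcases hz with rfl | rfl | rfl <;> simp [hf])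
  have hzb : ∀ z : Fin n, z + b ≠ z := fun z e => hb (add_eq_left.mp e)
  rcases (m i (Or.inl rfl)).resolve_left (hzb i) with e | e
  · -- `b = a`, and then `k` is fixed
    obtain rfl : b = a := add_left_cancel e
    rcases m k (Or.inr (Or.inr rfl)) with e' | e' | e'
    · exact hkj (by rw [hj, ← e', add_assoc, ha2, add_zero])
    · exact hki (add_right_cancel e')
    · exact hzb k e'
  · rcases m j (Or.inr (Or.inl rfl)) with e' | e' | e'
    · -- again `b = a`
      obtain rfl : b = a := add_left_cancel (e'.trans hja.symm)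
      exact hkj e.symm
    · exact hzb j e'
    · exact hji (add_right_cancel (e'.trans e.symm))

end Cfsg.Lib.FPF
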