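import Cfsg.Agent.S3794
import Cfsg.Agent.S0031
import Mathlib.GroupTheory.FixedPointFree
import Mathlib.GroupTheory.NoncommPiCoprod
import Mathlib.GroupTheory.Nilpotent
import Mathlib.GroupTheory.Solvable

/-!
# Fixed-point-free automorphisms of order dividing four

A finite group `G` with a fixed-point-free automorphism `σ`, `σ ^ 4 = 1`, is solvable, with nilpotent
derived group (Gorenstein–Herstein).  The proof is a count: with `z = σ ^ 2`, every `x` inverted by `z`
commutes with `σ x`, so every primary component of `x` lies in the invariant Sylow subgroup; since there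
are as many inverted elements as tuples of inverted elements of the invariant Sylow subgroups, inverted
elements of coprime prime power orders commute.
-/

set_option autoImplicit false

namespace Cfsg.Lib.FPF

open Subgroup

universe u

variable {G : Type u} [Group G] [Finite G]

/-- The restriction of an automorphism to an invariant subgroup. -/
noncomputable def restrictAut (σ : MulAut G) (H : Subgroup G) (hH : ∀ x ∈ H, σ x ∈ H) : MulAut H :=
  MulEquiv.ofBijective ((σ.toMonoidHom.comp H.subtype).codRestrict H fun x => hH x x.2)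
    (Finite.injective_iff_bijective.mp fun a b h =>
      Subtype.ext (σ.injective (congrArg Subtype.val h)))

@[simp] theorem restrictAut_coe (σ : MulAut G) (H : Subgroup G) (hH : ∀ x ∈ H, σ x ∈ H) (x : H) :
    (restrictAut σ H hH x : G) = σ x := rfl

omit [Finite G] in
theorem mem_eqLocus_iff (τ : MulAut G) (x : G) :
    x ∈ τ.toMonoidHom.eqLocus (MonoidHom.id G) ↔ τ x = x := Iff.rfl

/-- Every element of a group of odd order is a square of one of its powers. -/
theorem exists_sqrt (hodd : Odd (Nat.card G)) (a : G) : ∃ n : ℕ, (a ^ n) ^ 2 = a := by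
  obtain ⟨k, hk⟩ := hodd
  refine ⟨k + 1, ?_⟩
  rw [← pow_mul, show (k + 1) * 2 = Nat.card G + 1 by omega, pow_succ, pow_card_eq_one', one_mul]

/-- The elements inverted by an involutory automorphism of a group of odd order are as many as the
cosets of the fixed subgroup. -/
theorem card_inverted (τ : MulAut G) (hτ : ∀ x, τ (τ x) = x) (hodd : Odd (Nat.card G)) :
    Nat.card {x : G // τ x = x⁻¹} = (τ.toMonoidHom.eqLocus (MonoidHom.id G)).index := by
  set D := τ.toMonoidHom.eqLocus (MonoidHom.id G) with hD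
  rw [Subgroup.index_eq_card]
  refine (Nat.card_eq_of_bijective (Quotient.lift (fun x : G => (⟨x * (τ x)⁻¹, ?_⟩ : {x : G // τ x = x⁻¹})) ?_)
    ⟨?_, ?_⟩).symm
  · rw [map_mul, map_inv, hτ, mul_inv_rev, inv_inv]
  · intro x y hxy
    have h : τ (x⁻¹ * y) = x⁻¹ * y := (mem_eqLocus_iff τ _).mp (QuotientGroup.leftRel_apply.mp hxy)
    apply Subtype.ext
    show x * (τ x)⁻¹ = y * (τ y)⁻¹
    have e : y = x * (x⁻¹ * y) := by group
    generalize x⁻¹ * y = d at h e
    rw [e, map_mul, h]
    group
  · rintro ⟨x⟩ ⟨y⟩ h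
    apply QuotientGroup.eq.mpr
    rw [hD, mem_eqLocus_iff]
    have h1 : x * (τ x)⁻¹ = y * (τ y)⁻¹ := congrArg Subtype.val h
    rw [map_mul, map_inv]
    calc (τ x)⁻¹ * τ y = x⁻¹ * (x * (τ x)⁻¹) * τ y := by group
      _ = x⁻¹ * (y * (τ y)⁻¹) * τ y := by rw [h1]
      _ = x⁻¹ * y := by group
  · rintro ⟨a, ha⟩
    obtain ⟨n, hn⟩ := exists_sqrt hodd a
    refine ⟨QuotientGroup.mk (a ^ n), Subtype.ext ?_⟩
    show a ^ n * (τ (a ^ n))⁻¹ = a
    rw [map_pow, ha, inv_pow, inv_inv, ← pow_two, hn]

variable (σ : MulAut G) (hσ : ∀ g, σ g = g → g = 1)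

include hσ in
theorem commutator_surjective : Function.Surjective fun y => y⁻¹ * σ y := by
  refine Finite.surjective_of_injective fun a b hab => ?_
  have h1 : b * a⁻¹ * σ a = σ b := by
    have := congrArg (fun x => b * x) hab
    simpa [mul_assoc] using this
  have h2 : σ (b * a⁻¹) = b * a⁻¹ := by
    rw [map_mul, map_inv, ← h1, mul_assoc, mul_inv_cancel, mul_one]
  exact (mul_inv_eq_one.mp (hσ _ h2)).symm

/-- Invariance of a Sylow subgroup. -/
def Inv {p : ℕ} (P : Sylow p G) : Prop := ∀ x ∈ (P : Subgroup G), σ x ∈ (P : Subgroup G)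

include hσ in
theorem exists_inv (p : ℕ) [Fact p.Prime] : ∃ P : Sylow p G, Inv σ P := by
  obtain ⟨P, hP⟩ := Cfsg.Agent.S0031.result (σ : G ≃* G) hσ p
  exact ⟨P, fun x hx => hP ▸ mem_map_of_mem _ hx⟩

include hσ in
theorem inv_unique {p : ℕ} [Fact p.Prime] {P Q : Sylow p G} (hP : Inv σ P) (hQ : Inv σ Q) :
    (Q : Subgroup G) = P := by
  obtain ⟨n, hn⟩ := MulAction.exists_smul_eq G P Q
  have hQeq : (Q : Subgroup G) = (P : Subgroup G).map (MulAut.conj n).toMonoidHom := by
    rw [← hn]; rfl
  set N := normalizer ((P : Subgroup G) : Set G) with hN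
  have hσP : ∀ y, σ y ∈ (P : Subgroup G) ↔ y ∈ (P : Subgroup G) := fun y => by
    refine ⟨fun hy => ?_, hP y⟩
    obtain ⟨z, hz⟩ := Finite.surjective_of_injective
      (f := fun z : (P : Subgroup G) => (⟨σ z, hP z z.2⟩ : (P : Subgroup G)))
      (fun a b h => Subtype.ext (σ.injective (congrArg Subtype.val h))) ⟨σ y, hy⟩
    have : (z : G) = y := σ.injective (congrArg Subtype.val hz)
    exact this ▸ z.2
  have hσN : ∀ m ∈ N, σ m ∈ N := fun m hm => by
    rw [hN, mem_normalizer_iff] at hm ⊢
    intro y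
    obtain ⟨y', rfl⟩ := σ.surjective y
    rw [← map_inv, ← map_mul, ← map_mul, hσP, hσP]
    exact hm y'
  have hnN : n⁻¹ * σ n ∈ N := by
    have h' : ∀ x ∈ (P : Subgroup G), n⁻¹ * σ n * x * (n⁻¹ * σ n)⁻¹ ∈ (P : Subgroup G) := by
      intro x hx
      obtain ⟨x', rfl⟩ := σ.surjective x
      have h1 : n * x' * n⁻¹ ∈ (Q : Subgroup G) := hQeq ▸ ⟨x', (hσP x').mp hx, rfl⟩
      have h2 := hQ _ h1
      rw [hQeq] at h2
      obtain ⟨w, hw, hw'⟩ := h2
      have e : n⁻¹ * σ n * σ x' * (n⁻¹ * σ n)⁻¹ = w := by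
        change n * w * n⁻¹ = σ (n * x' * n⁻¹) at hw'
        rw [map_mul, map_mul, map_inv] at hw'
        calc n⁻¹ * σ n * σ x' * (n⁻¹ * σ n)⁻¹ = n⁻¹ * (σ n * σ x' * (σ n)⁻¹) * n := by group
          _ = n⁻¹ * (n * w * n⁻¹) * n := by rw [hw']
          _ = w := by group
      rw [e]; exact hw
    exact mem_normalizer_fintype h'
  let ρ : N → N := fun m => ⟨(m : G)⁻¹ * σ m, mul_mem (inv_mem m.2) (hσN _ m.2)⟩
  have hρ : Function.Injective ρ := fun a b h => by
    have h1 : (a : G)⁻¹ * σ a = (b : G)⁻¹ * σ b := congrArg Subtype.val h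
    exact Subtype.ext ((Finite.injective_iff_surjective.mpr (commutator_surjective σ hσ)) h1)
  obtain ⟨m, hm⟩ := Finite.surjective_of_injective hρ ⟨_, hnN⟩
  have h1 : (m : G)⁻¹ * σ m = n⁻¹ * σ n := congrArg Subtype.val hm
  have h2 : (m : G) = n := (Finite.injective_iff_surjective.mpr (commutator_surjective σ hσ)) h1
  rw [← hn, Sylow.smul_eq_iff_mem_normalizer.mpr (h2 ▸ m.2)]

include hσ in
/-- An invariant `p`-subgroup lies in the invariant Sylow subgroup. -/
theorem le_inv {p : ℕ} [Fact p.Prime] {P : Sylow p G} (hP : Inv σ P) {U : Subgroup G}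
    (hU : IsPGroup p U) (hUσ : ∀ x ∈ U, σ x ∈ U) : U ≤ P := by
  obtain ⟨V, hUV, ⟨hV, hVσ⟩, hmax⟩ :=
    (Set.toFinite {V : Subgroup G | IsPGroup p V ∧ ∀ x ∈ V, σ x ∈ V}).exists_le_maximal
      (a := U) ⟨hU, hUσ⟩
  set N := normalizer (V : Set G) with hN
  have hσN : ∀ m ∈ N, σ m ∈ N := fun m hm => by
    refine mem_normalizer_fintype fun y hy => ?_
    obtain ⟨z, hz⟩ := Finite.surjective_of_injective (f := fun z : V => (⟨σ z, hVσ z z.2⟩ : V))
      (fun a b h => Subtype.ext (σ.injective (congrArg Subtype.val h))) ⟨y, hy⟩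
    have hz' : σ z = y := congrArg Subtype.val hz
    rw [← hz', ← map_inv, ← map_mul, ← map_mul]
    exact hVσ _ ((mem_normalizer_iff.mp hm z).mp z.2)
  obtain ⟨R, hR⟩ := exists_inv (restrictAut σ N hσN)
    (fun g hg => Subtype.ext (hσ _ (congrArg Subtype.val hg))) p
  haveI : (V.subgroupOf N).Normal := (normal_subgroupOf_iff_le_normalizer le_normalizer).mpr le_rfl
  have hVR : V ≤ (R : Subgroup N).map N.subtype := fun x hx =>
    ⟨⟨x, le_normalizer hx⟩, IsPGroup.le_sylow_of_normal (N := V.subgroupOf N) hV.comap_subtype R hx, rfl⟩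
  have hRV : (R : Subgroup N).map N.subtype = V := by
    refine le_antisymm (hmax ⟨R.2.map _, ?_⟩ hVR) hVR
    rintro x ⟨y, hy, rfl⟩
    exact ⟨_, hR y hy, rfl⟩
  -- `V` is a Sylow subgroup of `G`
  obtain ⟨S, hS⟩ := hV.exists_le_sylow
  have hVS : V = S := by
    by_contra hne
    haveI : Group.IsNilpotent (S : Subgroup G) := S.2.isNilpotent
    have hlt : V.subgroupOf S < ⊤ := lt_top_iff_ne_top.mpr fun h =>
      hne (le_antisymm hS (subgroupOf_eq_top.mp h))
    obtain ⟨w, hw, hw'⟩ := SetLike.exists_of_lt (Group.normalizerCondition_of_isNilpotent _ hlt)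
    have hwN : (w : G) ∈ N := by
      refine mem_normalizer_fintype fun y hy => ?_
      exact (mem_normalizer_iff.mp hw ⟨y, hS hy⟩).mp hy
    set L := (S : Subgroup G).subgroupOf N with hL
    obtain ⟨R', hR'⟩ := IsPGroup.exists_le_sylow (P := L) S.2.comap_subtype
    have h1 : Nat.card L ≤ Nat.card (R : Subgroup N) := by
      rw [R.card_eq_multiplicity, ← R'.card_eq_multiplicity]
      exact Subgroup.card_le_of_le hR'
    have h2 : V.subgroupOf N < L := lt_of_le_of_ne (fun x hx => hS hx) fun h =>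
      hw' (show w ∈ V.subgroupOf S from (h.ge (show (⟨w, hwN⟩ : N) ∈ L from w.2) :))
    have h3 : Nat.card (R : Subgroup N) = Nat.card (V.subgroupOf N) := by
      rw [Nat.card_congr (subgroupOfEquivOfLe le_normalizer).toEquiv, ← hRV,
        card_map_of_injective N.subtype_injective]
    exact absurd (eq_of_le_of_card_ge h2.le (h1.trans h3.le)) h2.ne
  exact hUV.trans (hVS.le.trans (inv_unique σ hσ hP (fun x hx => hVS ▸ hVσ x (hVS.symm ▸ hx))).le)

include hσ in
/-- **Gorenstein–Herstein.** A finite group with a fixed-point-free automorphism of order dividing four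
has nilpotent derived group. -/
theorem isNilpotent_commutator (h4 : σ ^ 4 = 1) : Group.IsNilpotent (_root_.commutator G) := by
  classical
  have hodd : Odd (Nat.card G) := Cfsg.Agent.S3794.odd_card σ h4 hσ
  set n := Nat.card G with hn
  have hn0 : n ≠ 0 := Nat.card_pos.ne'
  set τ : MulAut G := σ * σ with hτ
  have hττ : ∀ x, τ (τ x) = x := fun x => by
    have := congrArg (fun f : MulAut G => f x) h4
    simpa [hτ, pow_succ] using this
  set D := τ.toMonoidHom.eqLocus (MonoidHom.id G) with hD
  -- an inverted element commutes with its image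
  have hcomm : ∀ x : G, τ x = x⁻¹ → Commute x (σ x) := by
    intro x hx
    have hx2 : σ (σ x) = x⁻¹ := hx
    obtain ⟨y, hy⟩ := commutator_surjective σ hσ x
    have h1 : x * σ x * x⁻¹ * (σ x)⁻¹ = 1 := by
      have e1 : σ (σ (σ x)) = (σ x)⁻¹ := by rw [hx2, map_inv]
      rw [← e1, ← hx2, ← hy]
      simp only [map_mul, map_inv]
      rw [show σ (σ (σ (σ y))) = y from hττ y]
      group
    exact mul_inv_eq_iff_eq_mul.mp (mul_inv_eq_one.mp h1)
  -- invariant Sylow subgroups and their inverted elements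
  set ι := {p : ℕ // p ∈ n.primeFactors}
  haveI hι : ∀ p : ι, Fact (p : ℕ).Prime := fun p => ⟨Nat.prime_of_mem_primeFactors p.2⟩
  choose R hR using fun p : ι => exists_inv σ hσ (p : ℕ)
  let e : ι → ℕ := fun p => n / (p : ℕ) ^ n.factorization p
  let I : ι → Type u := fun p => {x : (R p : Subgroup G) // τ x = (x : G)⁻¹}
  have hmem : ∀ (x : G), τ x = x⁻¹ → ∀ p : ι, x ^ e p ∈ (R p : Subgroup G) ∧ τ (x ^ e p) = (x ^ e p)⁻¹ := by
    intro x hx p
    have ha : τ (x ^ e p) = (x ^ e p)⁻¹ := by rw [map_pow, hx, inv_pow]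
    refine ⟨?_, ha⟩
    set a := x ^ e p
    have hap : (a : G) ^ (p : ℕ) ^ n.factorization p = 1 := by
      rw [← pow_mul, Nat.div_mul_cancel (Nat.ordProj_dvd n p), hn, pow_card_eq_one']
    have hc := hcomm a ha
    have hnorm : zpowers (σ a) ≤ normalizer ((zpowers a : Subgroup G) : Set G) :=
      le_trans ?_ (centralizer_le_normalizer _)
    rotate_left
    · rw [zpowers_le, mem_centralizer_iff]
      rintro y hy
      obtain ⟨i, rfl⟩ := mem_zpowers_iff.mp hy
      exact (hc.zpow_left i).eq
    have hpa : IsPGroup p (zpowers a) := IsPGroup.of_card_dvd_pow (n := n.factorization p)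
      (Nat.card_zpowers a ▸ orderOf_dvd_of_pow_eq_one hap)
    have hpb : IsPGroup p (zpowers (σ a)) := IsPGroup.of_card_dvd_pow (n := n.factorization p)
      (Nat.card_zpowers (σ a) ▸ orderOf_dvd_of_pow_eq_one (by rw [← map_pow, hap, map_one]))
    refine le_inv σ hσ (hR p) (U := zpowers a ⊔ zpowers (σ a))
      (IsPGroup.to_sup_of_normal_left' hpa hpb hnorm) ?_ (mem_sup_left (mem_zpowers a))
    have hle : zpowers a ⊔ zpowers (σ a) ≤ (zpowers a ⊔ zpowers (σ a)).comap σ.toMonoidHom := by
      refine sup_le (zpowers_le.mpr (mem_sup_right (mem_zpowers _))) (zpowers_le.mpr ?_)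
      show σ (σ a) ∈ zpowers a ⊔ zpowers (σ a)
      rw [show σ (σ a) = a⁻¹ from ha]
      exact mem_sup_left (inv_mem (mem_zpowers a))
    exact fun y hy => hle hy
  -- a set of integers killing every component contains one
  have hgcd : ∀ S : AddSubgroup ℤ, (∀ p : ι, (e p : ℤ) ∈ S) → (n : ℤ) ∈ S → (1 : ℤ) ∈ S := by
    intro S hS hnS
    obtain ⟨d, hd⟩ := Int.subgroup_cyclic S
    rw [hd] at hS hnS ⊢
    simp only [AddSubgroup.mem_closure_singleton, smul_eq_mul] at hS hnS ⊢
    have hdn : d.natAbs ∣ n := by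
      obtain ⟨c, hc⟩ := hnS
      exact Int.natCast_dvd_natCast.mp (Int.natAbs_dvd.mpr ⟨c, by rw [← hc, mul_comm]⟩)
    have hd1 : d.natAbs = 1 := by
      by_contra hne
      obtain ⟨q, hq, hqd⟩ := Nat.exists_prime_and_dvd hne
      obtain ⟨c, hc⟩ := hS ⟨q, Nat.mem_primeFactors.mpr ⟨hq, hqd.trans hdn, hn0⟩⟩
      refine Nat.not_dvd_ordCompl hq hn0 (hqd.trans ?_)
      exact Int.natCast_dvd_natCast.mp (Int.natAbs_dvd.mpr ⟨c, by rw [← hc, mul_comm]⟩)
    rcases Int.natAbs_eq d with h | h <;> rw [hd1] at h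
    · exact ⟨1, by omega⟩
    · exact ⟨-1, by omega⟩
  let f : {x : G // τ x = x⁻¹} → ∀ p : ι, I p := fun x p =>
    ⟨⟨(x : G) ^ e p, (hmem x x.2 p).1⟩, (hmem x x.2 p).2⟩
  have hfinj : Function.Injective f := by
    intro x y h
    let S : AddSubgroup ℤ :=
      { carrier := {k : ℤ | (x : G) ^ k = (y : G) ^ k}
        add_mem' := fun {a b} ha hb => by simp_all [zpow_add]
        zero_mem' := by simp
        neg_mem' := fun {a} ha => by simp_all [zpow_neg] }
    have h1 := hgcd S (fun p => by
      have := congrArg (fun z : I p => ((z : (R p : Subgroup G)) : G)) (congrFun h p)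
      show (x : G) ^ (e p : ℤ) = (y : G) ^ (e p : ℤ)
      simpa [f] using this) (by
      show (x : G) ^ (n : ℤ) = (y : G) ^ (n : ℤ)
      simp [hn, pow_card_eq_one'])
    exact Subtype.ext (by simpa [S] using h1)
  haveI : ∀ p : ι, Finite (I p) := fun p => Subtype.finite
  haveI : Finite {x : G // τ x = x⁻¹} := Subtype.finite
  -- counting
  have hcardI : ∀ p : ι, Nat.card (I p) = (p : ℕ) ^ (D.index.factorization p) := by
    intro p
    have hinvR : ∀ x ∈ (R p : Subgroup G), τ x ∈ (R p : Subgroup G) := fun x hx => hR p _ (hR p x hx)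
    have h := card_inverted (restrictAut τ _ hinvR) (fun x => Subtype.ext (hττ x))
      (hodd.of_dvd_nat (Subgroup.card_subgroup_dvd_card _))
    have hE : (restrictAut τ _ hinvR).toMonoidHom.eqLocus (MonoidHom.id _) = D.subgroupOf (R p) := by
      ext x
      exact Subtype.ext_iff
    rw [hE] at h
    have hI : Nat.card (I p) = (D.subgroupOf (R p : Subgroup G)).index := by
      rw [← h]
      exact Nat.card_congr (Equiv.subtypeEquivRight fun x => by simp [Subtype.ext_iff])
    -- a Sylow subgroup of `D` lies in `R p`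
    have hDσ : ∀ x ∈ D, σ x ∈ D := fun x hx => by
      show τ (σ x) = σ x
      exact congrArg σ (show τ x = x from hx)
    obtain ⟨T, hT⟩ := exists_inv (restrictAut σ D hDσ)
      (fun g hg => Subtype.ext (hσ _ (congrArg Subtype.val hg))) (p : ℕ)
    have hTR : (T : Subgroup D).map D.subtype ≤ (R p : Subgroup G) := by
      refine le_inv σ hσ (hR p) (T.2.map _) ?_
      rintro x ⟨y, hy, rfl⟩
      exact ⟨_, hT y hy, rfl⟩
    have hDR : Nat.card (D.subgroupOf (R p : Subgroup G)) = (p : ℕ) ^ (Nat.card D).factorization p := by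
      rw [← T.card_eq_multiplicity, ← card_map_of_injective (K := D.subgroupOf (R p : Subgroup G)) (R p : Subgroup G).subtype_injective,
        subgroupOf_map_subtype, ← card_map_of_injective (K := (T : Subgroup D)) D.subtype_injective]
      refine le_antisymm ?_ (Subgroup.card_le_of_le (le_inf (map_subtype_le _) hTR))
      rw [card_map_of_injective D.subtype_injective, T.card_eq_multiplicity]
      obtain ⟨k, hk⟩ := ((R p).2.to_le (inf_le_right : D ⊓ (R p : Subgroup G) ≤ _)).exists_card_eq
      rw [hk]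
      refine Nat.pow_le_pow_right (hι p).out.pos ?_
      have hdvd := Subgroup.card_dvd_of_le (inf_le_left : D ⊓ (R p : Subgroup G) ≤ D)
      rw [hk] at hdvd
      exact ((hι p).out.pow_dvd_iff_le_factorization Nat.card_pos.ne').mp hdvd
    have hmul := (D.subgroupOf (R p : Subgroup G)).card_mul_index
    rw [← hI, hDR, (R p).card_eq_multiplicity] at hmul
    have hfac : (Nat.card G).factorization p = (Nat.card D).factorization p + D.index.factorization p := by
      rw [← D.card_mul_index, Nat.factorization_mul Nat.card_pos.ne' D.index_ne_zero_of_finite]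
      rfl
    rw [hfac, pow_add] at hmul
    exact Nat.eq_of_mul_eq_mul_left (pow_pos (hι p).out.pos _) hmul
  have hcard : Nat.card {x : G // τ x = x⁻¹} = Nat.card (∀ p : ι, I p) := by
    rw [card_inverted τ hττ hodd, Nat.card_pi, Finset.prod_congr rfl (fun p _ => hcardI p)]
    conv_lhs => rw [← Nat.prod_factorization_pow_eq_self (D.index_ne_zero_of_finite)]
    rw [Finsupp.prod, Nat.support_factorization]
    have hsub : D.index.primeFactors ⊆ n.primeFactors :=
      Nat.primeFactors_mono D.index_dvd_card hn0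
    rw [Finset.prod_subset hsub fun q _ hq => by
      rw [← Nat.support_factorization, Finsupp.notMem_support_iff] at hq
      rw [hq, pow_zero]]
    exact (Finset.prod_coe_sort n.primeFactors fun q => q ^ D.index.factorization q).symm
  have hfsurj : Function.Surjective f := ((Nat.bijective_iff_injective_and_card f).mpr ⟨hfinj, hcard⟩).2
  -- inverted elements of different invariant Sylow subgroups commute
  let one : ∀ p : ι, I p := fun p => ⟨1, by simp⟩
  have hpair : ∀ p q : ι, p ≠ q → ∀ (a : I p) (b : I q), Commute ((a : (R p : Subgroup G)) : G) ((b : (R q : Subgroup G)) : G) := by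
    intro p q hpq a b
    obtain ⟨x, hx⟩ := hfsurj (Function.update (Function.update one p a) q b)
    have h1 : (x : G) ^ e p = ((a : (R p : Subgroup G)) : G) := by
      have := congrArg (fun z : I p => ((z : (R p : Subgroup G)) : G)) (congrFun hx p)
      simpa [f, Function.update_of_ne hpq] using this
    have h2 : (x : G) ^ e q = ((b : (R q : Subgroup G)) : G) := by
      have := congrArg (fun z : I q => ((z : (R q : Subgroup G)) : G)) (congrFun hx q)
      simpa [f] using this
    rw [← h1, ← h2]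
    exact Commute.pow_pow_self _ _ _
  -- the subgroup generated by the inverted elements
  let W : ι → Subgroup G := fun p => closure (Set.range fun a : I p => ((a : (R p : Subgroup G)) : G))
  have hWcomm : Pairwise fun p q => ∀ x y : G, x ∈ W p → y ∈ W q → Commute x y := by
    intro p q hpq x y hx hy
    have h1 : W q ≤ centralizer ((W p : Subgroup G) : Set G) := by
      rw [closure_le]
      rintro _ ⟨b, rfl⟩
      rw [SetLike.mem_coe, mem_centralizer_iff]
      have h2 : W p ≤ centralizer {((b : (R q : Subgroup G)) : G)} := by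
        rw [closure_le]
        rintro _ ⟨a, rfl⟩
        rw [SetLike.mem_coe, mem_centralizer_singleton_iff]
        exact (hpair p q hpq a b).eq
      exact fun z hz => mem_centralizer_singleton_iff.mp (h2 hz)
    exact mem_centralizer_iff.mp (h1 hy) x hx
  haveI : ∀ p : ι, Group.IsNilpotent (W p) := fun p => by
    have hle : W p ≤ (R p : Subgroup G) := by
      rw [closure_le]; rintro _ ⟨a, rfl⟩; exact a.1.2
    exact ((R p).2.to_le hle).isNilpotent
  haveI : Group.IsNilpotent (∀ p : ι, W p) := Group.isNilpotent_pi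
  set Φ := Subgroup.noncommPiCoprod hWcomm with hΦ
  haveI : Group.IsNilpotent Φ.range :=
    Group.nilpotent_of_surjective Φ.rangeRestrict Φ.rangeRestrict_surjective
  have hinv : ∀ x : G, τ x = x⁻¹ → x ∈ Φ.range := by
    intro x hx
    rw [hΦ, noncommPiCoprod_range]
    let S : AddSubgroup ℤ :=
      { carrier := {k : ℤ | x ^ k ∈ ⨆ p, W p}
        add_mem' := fun {a b} ha hb => by
          simp only [Set.mem_setOf_eq] at ha hb ⊢
          rw [zpow_add]; exact mul_mem ha hb
        zero_mem' := by simp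
        neg_mem' := fun {a} ha => by
          simp only [Set.mem_setOf_eq] at ha ⊢
          rw [zpow_neg]; exact inv_mem ha }
    have h1 := hgcd S (fun p => by
      show x ^ (e p : ℤ) ∈ (⨆ p, W p)
      rw [zpow_natCast]
      exact mem_iSup_of_mem p (subset_closure ⟨⟨⟨_, (hmem x hx p).1⟩, (hmem x hx p).2⟩, rfl⟩)) (by
      show x ^ (n : ℤ) ∈ (⨆ p, W p)
      simp [hn, pow_card_eq_one'])
    simpa [S] using h1
  -- it is normal with commutative quotient
  have hdec : ∀ g : G, ∃ b ∈ Φ.range, ∃ d ∈ D, g = b * d := by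
    intro g
    have ha : τ (g * (τ g)⁻¹) = (g * (τ g)⁻¹)⁻¹ := by rw [map_mul, map_inv, hττ, mul_inv_rev, inv_inv]
    obtain ⟨k, hk⟩ := exists_sqrt hodd (g * (τ g)⁻¹)
    set b := (g * (τ g)⁻¹) ^ k
    have hb : τ b = b⁻¹ := by rw [map_pow, ha, inv_pow]
    refine ⟨b, pow_mem (hinv _ ha) k, b⁻¹ * g, ?_, by group⟩
    show τ (b⁻¹ * g) = b⁻¹ * g
    rw [map_mul, map_inv, hb, inv_inv]
    calc b * τ g = b⁻¹ * (b ^ 2) * τ g := by group
      _ = b⁻¹ * (g * (τ g)⁻¹) * τ g := by rw [hk]
      _ = b⁻¹ * g := by group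
  have hWrange : Φ.range ≤ closure {x : G | τ x = x⁻¹} := by
    rw [hΦ, noncommPiCoprod_range]
    refine iSup_le fun p => closure_mono ?_
    rintro _ ⟨a, rfl⟩
    exact a.2
  haveI hnormal : Φ.range.Normal := by
    have hDn : D ≤ normalizer ((Φ.range : Subgroup G) : Set G) := by
      intro d hd
      refine mem_normalizer_fintype fun y hy => ?_
      have hle : closure {x : G | τ x = x⁻¹} ≤ Φ.range.comap (MulAut.conj d).toMonoidHom := by
        rw [closure_le]
        intro x hx
        refine hinv _ ?_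
        show τ (d * x * d⁻¹) = (d * x * d⁻¹)⁻¹
        rw [map_mul, map_mul, map_inv, show τ d = d from hd, show τ x = x⁻¹ from hx]
        group
      exact hle (hWrange hy)
    refine normalizer_eq_top_iff.mp (eq_top_iff.mpr fun g _ => ?_)
    obtain ⟨b, hb, d, hd, rfl⟩ := hdec g
    exact mul_mem (le_normalizer hb) (hDn hd)
  have hDinv : ∀ a ∈ D, ∀ b ∈ D, a * b = b * a := by
    have hDσ : ∀ x ∈ D, σ x ∈ D := fun x hx => by
      show τ (σ x) = σ x
      exact congrArg σ (show τ x = x from hx)
    let φ : D →* D := (restrictAut σ D hDσ).toMonoidHom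
    have hfp : MonoidHom.FixedPointFree φ := fun g hg => Subtype.ext (hσ _ (congrArg Subtype.val hg))
    have h2 : Function.Involutive φ := fun x => Subtype.ext x.2
    intro a ha b hb
    exact congrArg Subtype.val (hfp.commute_all_of_involutive h2 ⟨a, ha⟩ ⟨b, hb⟩)
  have hle : _root_.commutator G ≤ Φ.range := by
    refine Subgroup.Normal.quotient_commutative_iff_commutator_le.mp ⟨⟨?_⟩⟩
    rintro ⟨x⟩ ⟨y⟩
    obtain ⟨b, hb, d, hd, rfl⟩ := hdec x
    obtain ⟨b', hb', d', hd', rfl⟩ := hdec y
    have h1 : ∀ {u v : G}, u ∈ Φ.range → (QuotientGroup.mk (u * v) : G ⧸ Φ.range) = QuotientGroup.mk v := by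
      intro u v hu
      rw [QuotientGroup.mk_mul, (QuotientGroup.eq_one_iff u).mpr hu, one_mul]
    change (QuotientGroup.mk (b * d) : G ⧸ Φ.range) * QuotientGroup.mk (b' * d') =
      QuotientGroup.mk (b' * d') * QuotientGroup.mk (b * d)
    rw [h1 hb, h1 hb', ← QuotientGroup.mk_mul, ← QuotientGroup.mk_mul, hDinv d hd d' hd']
  exact Group.isNilpotent_congr (Subgroup.subgroupOfEquivOfLe hle) |>.mp inferInstance

include hσ in
/-- A finite group with a fixed-point-free automorphism of order dividing four is solvable. -/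
theorem isSolvable_of_order_four (h4 : σ ^ 4 = 1) : Group.IsSolvable G := by
  haveI := isNilpotent_commutator σ hσ h4
  have h1 : Group.IsSolvable (_root_.commutator G) := inferInstance
  have h2 : Group.IsSolvable (G ⧸ _root_.commutator G) :=
    Group.isSolvable_of_comm fun a b => by
      exact (Subgroup.Normal.quotient_commutative_iff_commutator_le.mpr le_rfl).is_comm.comm a b
  exact (Group.isSolvable_iff_subgroup_quotient (_root_.commutator G)).mpr ⟨h1, h2⟩

end Cfsg.Lib.FPF
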