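import Mathlib.Algebra.Field.IsField
import Mathlib.Algebra.Ring.Subring.Basic
import Mathlib.Algebra.CharP.Basic
import Mathlib.FieldTheory.Finite.Basic
import Mathlib.GroupTheory.QuotientGroup.Basic
import Mathlib.GroupTheory.Commutator.Basic

/-!
# An abelian group of operators transitive on the nonidentity elements is a group of scalars
-/

set_option autoImplicit false
set_option linter.style.haveILetI false

namespace Cfsg.Lib.FPF

open Subgroup
open scoped commutatorElement

universe u

/-- If `R` acts on an abelian normal subgroup `V` of prime exponent transitively on `V` minus one and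
`⁅R, R⁆ ≤ V`, then `V` is a finite field on which some `h` is a primitive scalar. -/
theorem exists_regular_field {R : Type u} [Group R] [Finite R] (V : Subgroup R) [V.Normal]
    (hV : ∀ a ∈ V, ∀ b ∈ V, a * b = b * a) (hR : ∀ x y : R, ⁅x, y⁆ ∈ V) {v : R} (hv : v ∈ V)
    (hv1 : v ≠ 1) (htrans : ∀ b ∈ V, b ≠ 1 → ∃ x, x * v * x⁻¹ = b)
    {p : ℕ} [Fact p.Prime] (hexp : ∀ a ∈ V, a ^ p = 1) :
    ∃ (F : Type u) (_ : Field F) (_ : Fintype F) (_ : CharP F p) (h : R) (α : Fˣ) (e : V → F),
      Function.Bijective e ∧ (∀ a b, e (a * b) = e a + e b) ∧ Nat.card F = Nat.card V ∧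
      orderOf α = Nat.card V - 1 ∧ (∀ a, e (MulAut.conjNormal h a) = (α : F) * e a) ∧
      ∀ x : R, ∃ i : ℕ, ∀ a ∈ V, x * a * x⁻¹ = h ^ i * a * (h ^ i)⁻¹ := by
  classical
  letI : CommGroup V :=
    { (inferInstance : Group V) with mul_comm := fun a b => Subtype.ext (hV a a.2 b b.2) }
  haveI : Finite (Additive V) := inferInstanceAs (Finite V)
  let ρ : R →* AddMonoid.End (Additive V) :=
    { toFun := fun x => (MulAut.conjNormal x).toMonoidHom.toAdditive
      map_one' := AddMonoidHom.ext fun a => congrArg (fun f : MulAut V => Additive.ofMul (f (Additive.toMul a))) (_root_.map_one (MulAut.conjNormal (H := V)))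
      map_mul' := fun x y => AddMonoidHom.ext fun a => congrArg (fun f : MulAut V => Additive.ofMul (f (Additive.toMul a))) (_root_.map_mul (MulAut.conjNormal (H := V)) x y) }
  have hρcomm : ∀ a ∈ Set.range ρ, ∀ b ∈ Set.range ρ, a * b = b * a := by
    rintro _ ⟨x, rfl⟩ _ ⟨y, rfl⟩
    rw [← _root_.map_mul, ← _root_.map_mul]
    refine AddMonoidHom.ext fun a => ?_
    apply Additive.toMul.injective
    apply Subtype.ext
    show x * y * (Additive.toMul a : V) * (x * y)⁻¹ = y * x * (Additive.toMul a : V) * (y * x)⁻¹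
    have hc := hV _ (hR x y) _ (Subgroup.Normal.conj_mem inferInstance _ (Additive.toMul a).2 (y * x))
    have e : x * y = ⁅x, y⁆ * (y * x) := by simp only [commutatorElement_def]; group
    rw [e]
    calc ⁅x, y⁆ * (y * x) * ((Additive.toMul a : V) : R) * (⁅x, y⁆ * (y * x))⁻¹
        = ⁅x, y⁆ * (y * x * ((Additive.toMul a : V) : R) * (y * x)⁻¹) * ⁅x, y⁆⁻¹ := by group
      _ = y * x * ((Additive.toMul a : V) : R) * (y * x)⁻¹ := by rw [hc, mul_inv_cancel_right]
  let A : Subring (AddMonoid.End (Additive V)) := Subring.closure (Set.range ρ)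
  haveI hA : IsMulCommutative A := Subring.isMulCommutative_closure hρcomm
  have hmem : ∀ x, ρ x ∈ A := fun x => Subring.subset_closure ⟨x, rfl⟩
  let u : R →* A := ρ.codRestrict A hmem
  let v₀ : Additive V := Additive.ofMul ⟨v, hv⟩
  have hv₀ : v₀ ≠ 0 := fun h => hv1 (congrArg (fun a => ((Additive.toMul a : V) : R)) h)
  have htr : ∀ w : Additive V, w ≠ 0 → ∃ x, ρ x v₀ = w := by
    intro w hw
    have hw' : ((Additive.toMul w : V) : R) ≠ 1 := fun h => hw <| by
      apply Additive.toMul.injective
      exact Subtype.ext h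
    obtain ⟨x, hx⟩ := htrans _ (Additive.toMul w).2 hw'
    exact ⟨x, Additive.toMul.injective (Subtype.ext hx)⟩
  have hzero : ∀ a : A, (a : AddMonoid.End (Additive V)) v₀ = 0 → a = 0 := by
    intro a ha
    refine Subtype.ext (AddMonoidHom.ext fun w => ?_)
    by_cases hw : w = 0
    · rw [hw]
      exact ((a : AddMonoid.End (Additive V)).map_zero).trans (rfl : (0 : Additive V) = _)
    obtain ⟨x, rfl⟩ := htr w hw
    have hc : (a : AddMonoid.End (Additive V)) * ρ x = ρ x * a :=
      congrArg Subtype.val (mul_comm' a (u x))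
    show ((a : AddMonoid.End (Additive V)) * ρ x) v₀ = 0
    rw [hc]
    show ρ x ((a : AddMonoid.End (Additive V)) v₀) = 0
    rw [ha, _root_.map_zero]
  have hunit : ∀ a : A, a ≠ 0 → ∃ x, u x = a := by
    intro a ha
    obtain ⟨x, hx⟩ := htr ((a : AddMonoid.End (Additive V)) v₀) fun h => ha (hzero a h)
    refine ⟨x, sub_eq_zero.mp (hzero _ ?_)⟩
    show ρ x v₀ - (a : AddMonoid.End (Additive V)) v₀ = 0
    rw [hx, sub_self]
  haveI : Nontrivial A := ⟨⟨1, 0, fun h => hv₀ (congrArg (fun a : A => (a : AddMonoid.End (Additive V)) v₀) h)⟩⟩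
  have hfield : IsField A :=
    ⟨exists_pair_ne A, mul_comm', fun {a} ha => by
      obtain ⟨x, rfl⟩ := hunit a ha
      exact ⟨u x⁻¹, by rw [← _root_.map_mul, mul_inv_cancel, _root_.map_one]⟩⟩
  letI : Field A := hfield.toField
  haveI : Finite (AddMonoid.End (Additive V)) := Finite.of_injective _ DFunLike.coe_injective
  haveI : Finite A := inferInstance
  letI : Fintype A := Fintype.ofFinite A
  let ev : A → V := fun a => Additive.toMul ((a : AddMonoid.End (Additive V)) v₀)
  have hev : Function.Bijective ev := by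
    refine ⟨fun a b h => sub_eq_zero.mp (hzero _ ?_), fun w => ?_⟩
    · show (a : AddMonoid.End (Additive V)) v₀ - (b : AddMonoid.End (Additive V)) v₀ = 0
      rw [Additive.toMul.injective h, sub_self]
    · by_cases hw : w = 1
      · exact ⟨0, by rw [hw]; rfl⟩
      obtain ⟨x, hx⟩ := htr (Additive.ofMul w) fun h => hw (congrArg Additive.toMul h)
      exact ⟨u x, congrArg Additive.toMul hx⟩
  let e : V → A := (Equiv.ofBijective ev hev).symm
  have heev : ∀ w, ev (e w) = w := (Equiv.ofBijective ev hev).apply_symm_apply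
  haveI : CharP A p := by
    refine (CharP.charP_iff_prime_eq_zero Fact.out).mpr (hzero _ ?_)
    rw [← nsmul_one p]
    show p • v₀ = 0
    apply Additive.toMul.injective
    exact Subtype.ext (hexp v hv)
  obtain ⟨α, hα⟩ := IsCyclic.exists_generator (α := Aˣ)
  obtain ⟨h, hh⟩ := hunit (α : A) α.ne_zero
  have hcard : Nat.card A = Nat.card V := Nat.card_congr (Equiv.ofBijective ev hev)
  refine ⟨A, inferInstance, inferInstance, inferInstance, h, α, e, (Equiv.ofBijective ev hev).symm.bijective,
    fun a b => hev.1 ?_, hcard, ?_, fun a => hev.1 ?_, fun x => ?_⟩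
  · rw [heev]
    show a * b = ev (e a) * ev (e b)
    rw [heev, heev]
  · rw [orderOf_eq_card_of_forall_mem_zpowers hα, Nat.card_units, hcard]
  · rw [heev]
    show MulAut.conjNormal h a = Additive.toMul (((α : A) * e a : A) : AddMonoid.End (Additive V)) v₀
    rw [← hh]
    show MulAut.conjNormal h a = MulAut.conjNormal h (ev (e a))
    rw [heev]
  · have hx0 : u x ≠ 0 := by
      intro h0
      have := congrArg (fun a : A => u x⁻¹ * a) h0
      simp only [← _root_.map_mul, inv_mul_cancel, _root_.map_one, mul_zero] at this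
      exact one_ne_zero this
    obtain ⟨i, hi⟩ := (mem_powers_iff_mem_zpowers.mpr (hα (Units.mk0 (u x) hx0)))
    refine ⟨i, fun a ha => ?_⟩
    have h1 : u x = u (h ^ i) := by
      rw [_root_.map_pow, hh, ← Units.val_pow_eq_pow_val]
      exact (congrArg Units.val hi).symm
    have h2 := congrArg (fun f : A => (f : AddMonoid.End (Additive V)) (Additive.ofMul (⟨a, ha⟩ : V))) h1
    exact congrArg (fun w => ((Additive.toMul w : V) : R)) h2

end Cfsg.Lib.FPF
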