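import Cfsg.Agent.S0033
import Cfsg.Agent.S0081
import Cfsg.Agent.Lib.Char.Central
import Cfsg.Agent.Lib.FPF.OrderFour
import Cfsg.Agent.Lib.FPF.CaminaSinger
import Cfsg.Agent.Lib.FPF.RegularField
import Cfsg.Agent.Lib.TwoGroup.MaximalClass
import Cfsg.Agent.Lib.PGroup.Basic
import Cfsg.Agent.Lib.Fusion.Basic

/-!
# Groups in which the derived subgroup is a normal subgroup and one class

The group theory behind a non-central element seen by a single nonlinear character: if
`G' = N ∪ gᴳ` with the numerical condition coming from the character, then `G` is solvable.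
-/

set_option autoImplicit false
set_option linter.style.haveILetI false

namespace Cfsg.Lib.FPF

open Subgroup
open scoped commutatorElement

universe u

variable {G : Type u} [Group G] [Finite G] {p : ℕ}

/-- A class inside a coset which is large enough is the whole coset. -/
theorem coset_class (P N : Subgroup G) [N.Normal] {x : G} (hx : x ∈ P) (hxc : ∀ y ∈ P, ⁅x, y⁆ ∈ N)
    (hcard : Nat.card (centralizer ({x} : Set G)) * Nat.card ↥(P ⊓ N) ≤ Nat.card P) :
    ∀ u ∈ P ⊓ N, ∃ y ∈ P, y * x * y⁻¹ = x * u := by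
  set C := (centralizer ({x} : Set G)).subgroupOf P
  have hmem : ∀ y : P, x⁻¹ * ((y : G) * x * (y : G)⁻¹) ∈ P ⊓ N := fun y => by
    refine mem_inf.mpr ⟨P.mul_mem (P.inv_mem hx) (P.mul_mem (P.mul_mem y.2 hx) (P.inv_mem y.2)), ?_⟩
    have h := Subgroup.Normal.conj_mem ‹N.Normal› _ (N.inv_mem (hxc y y.2)) x⁻¹
    have e : x⁻¹ * ((y : G) * x * (y : G)⁻¹) = x⁻¹ * ⁅x, (y : G)⁆⁻¹ * x⁻¹⁻¹ := by
      simp only [commutatorElement_def]; group
    rwa [e]
  let f : P ⧸ C → ↥(P ⊓ N) := Quotient.lift (fun y => ⟨_, hmem y⟩) fun a b hab => by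
    have hc := mem_centralizer_singleton_iff.mp (mem_subgroupOf.mp (QuotientGroup.leftRel_apply.mp hab))
    simp only [Subgroup.coe_mul, Subgroup.coe_inv] at hc
    apply Subtype.ext
    show x⁻¹ * ((a : G) * x * (a : G)⁻¹) = x⁻¹ * ((b : G) * x * (b : G)⁻¹)
    congr 1
    calc (a : G) * x * (a : G)⁻¹ = (a : G) * (x * ((a : G)⁻¹ * b)) * (b : G)⁻¹ := by group
      _ = (a : G) * ((a : G)⁻¹ * b * x) * (b : G)⁻¹ := by rw [hc]
      _ = (b : G) * x * (b : G)⁻¹ := by group
  have hinj : Function.Injective f := by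
    rintro ⟨a⟩ ⟨b⟩ h
    have h' : (a : G) * x * (a : G)⁻¹ = (b : G) * x * (b : G)⁻¹ :=
      mul_left_cancel (congrArg Subtype.val h)
    refine QuotientGroup.eq.mpr (mem_subgroupOf.mpr (mem_centralizer_singleton_iff.mpr ?_))
    simp only [Subgroup.coe_mul, Subgroup.coe_inv]
    calc (a : G)⁻¹ * b * x = (a : G)⁻¹ * ((b : G) * x * (b : G)⁻¹) * b := by group
      _ = (a : G)⁻¹ * ((a : G) * x * (a : G)⁻¹) * b := by rw [h']
      _ = x * ((a : G)⁻¹ * b) := by group
  have hle : Nat.card ↥(P ⊓ N) ≤ Nat.card (P ⧸ C) := by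
    have h1 : Nat.card C ≤ Nat.card (centralizer ({x} : Set G)) :=
      Nat.card_le_card_of_injective (fun c : C => (⟨((c : P) : G), mem_subgroupOf.mp c.2⟩ :
        centralizer ({x} : Set G))) fun a b h => Subtype.ext (Subtype.ext (by simpa using congrArg Subtype.val h))
    rw [← C.index_eq_card]
    have h2 := C.card_mul_index
    refine Nat.le_of_mul_le_mul_left ?_ (Nat.card_pos (α := C))
    calc Nat.card C * Nat.card ↥(P ⊓ N) ≤ Nat.card (centralizer ({x} : Set G)) * Nat.card ↥(P ⊓ N) :=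
          Nat.mul_le_mul_right _ h1
      _ ≤ Nat.card C * C.index := h2.symm ▸ hcard
  intro u hu
  obtain ⟨⟨y⟩, hy⟩ := (hinj.bijective_of_nat_card_le hle).2 ⟨u, hu⟩
  refine ⟨y, y.2, ?_⟩
  have : x⁻¹ * ((y : G) * x * (y : G)⁻¹) = u := congrArg Subtype.val hy
  rw [← this, mul_inv_cancel_left]

omit [Finite G] in
theorem card_eq_inf_mul_relIndex (P N : Subgroup G) [N.Normal] {T : Subgroup G} (h : P ⊔ N = T) :
    Nat.card P = Nat.card ↥(P ⊓ N) * N.relIndex T := by
  rw [← h, relIndex_sup_right, ← inf_relIndex_right, inf_comm N P,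
    ← Nat.card_congr (subgroupOfEquivOfLe (inf_le_left : P ⊓ N ≤ P)).toEquiv]
  exact (card_mul_index _).symm

theorem hasNormalPComplement_of_inf_le_commutator [Fact p.Prime] (P : Sylow p G) (N : Subgroup G) [N.Normal]
    (h : ∀ u ∈ (P : Subgroup G) ⊓ N, u ∈ ⁅(P : Subgroup G), (P : Subgroup G)⁆) :
    HasNormalPComplement p N := by
  refine Cfsg.Agent.S0081.result P N fun u hu => ?_
  refine Subgroup.map_mono (Cfsg.Lib.PGroup.commutator_le_frattini P.2) ?_
  rw [Subgroup.map_subtype_commutator]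
  exact h u ⟨hu.2, hu.1⟩

/-- A normal subgroup with a normal `p`-complement is solvable when an element of small `p`-power
order has a `p`-group as centralizer. -/
theorem isSolvable_of_small_centralizer [hp : Fact p.Prime] (N : Subgroup G) [N.Normal]
    (hN : HasNormalPComplement p N) {g : G} {m : ℕ} (hC : Nat.card (centralizer ({g} : Set G)) = p ^ m)
    (hg : g ^ p = 1 ∨ g ^ 4 = 1) : Group.IsSolvable N := by
  set K := pResidual p N
  have hK := Cfsg.Lib.Fusion.hasNormalPComplement_iff_coprime.mp hN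
  have hinv : ∀ k ∈ K, (MulAut.conjNormal g : MulAut N) k ∈ K := fun k hk =>
    Cfsg.Lib.Fusion.map_pResidual_le (MulAut.conjNormal g : MulAut N).toMonoidHom ⟨k, hk, rfl⟩
  set σ := restrictAut (MulAut.conjNormal g : MulAut N) K hinv
  have hfix : ∀ k : K, σ k = k → k = 1 := by
    intro k hk
    have hk' : g * ((k : N) : G) * g⁻¹ = ((k : N) : G) := congrArg (fun x : K => ((x : N) : G)) hk
    have hmem : ((k : N) : G) ∈ centralizer ({g} : Set G) :=
      mem_centralizer_singleton_iff.mpr (mul_inv_eq_iff_eq_mul.mp hk').symm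
    have h1 : orderOf ((k : N) : G) ∣ p ^ m := hC ▸ by
      rw [← Subgroup.orderOf_mk _ hmem]
      exact orderOf_dvd_natCard _
    have h2 : orderOf ((k : N) : G) ∣ Nat.card K := by
      rw [Subgroup.orderOf_coe, Subgroup.orderOf_coe]
      exact orderOf_dvd_natCard _
    have h3 := Nat.eq_one_of_dvd_coprimes (hK.pow_right m) h2 h1
    rw [orderOf_eq_one_iff] at h3
    exact Subtype.ext (Subtype.ext h3)
  have hpow : ∀ n : ℕ, g ^ n = 1 → σ ^ n = 1 := by
    intro n hn
    have hcoe : ∀ (i : ℕ) (k : K), (((σ ^ i) k : K) : N) = ((MulAut.conjNormal g : MulAut N) ^ i) k := by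
      intro i
      induction i with
      | zero => intro k; rfl
      | succ i ih => intro k; rw [pow_succ', MulAut.mul_apply, pow_succ', MulAut.mul_apply, ← ih]; rfl
    ext k
    rw [hcoe, ← _root_.map_pow, hn, _root_.map_one]
    rfl
  have hKsolv : Group.IsSolvable K := by
    rcases hg with hgp | hg4
    · have hdvd := orderOf_dvd_of_pow_eq_one (hpow p hgp)
      rcases (Nat.dvd_prime hp.out).mp hdvd with h1 | h1
      · refine Group.isSolvable_of_comm fun a b => ?_
        rw [orderOf_eq_one_iff] at h1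
        rw [hfix a (by rw [h1]; rfl), hfix b (by rw [h1]; rfl)]
      · haveI := Cfsg.Agent.S0033.result (σ : K ≃* K) (fun k hk => hfix k hk) p hp.out h1
        infer_instance
    · exact isSolvable_of_order_four σ hfix (hpow 4 hg4)
  haveI : Group.IsNilpotent (N ⧸ K) := Cfsg.Lib.Fusion.isPGroup_quotient_pResidual.isNilpotent
  exact (Group.isSolvable_iff_subgroup_quotient K).mpr ⟨hKsolv, inferInstance⟩

variable {g : G} {N : Subgroup G} [N.Normal] (hNM : N ≤ _root_.commutator G) (hgM : g ∈ _root_.commutator G)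
  (hgN : g ∉ N) (hclass : ∀ x ∈ _root_.commutator G, x ∉ N → IsConj g x)

include hNM hgM hgN hclass

/-- The class equation. -/
theorem card_centralizer_mul {x : G} (hxM : x ∈ _root_.commutator G) (hxN : x ∉ N) :
    Nat.card (centralizer ({x} : Set G)) * (N.relIndex (_root_.commutator G) - 1) =
      (_root_.commutator G).index * N.relIndex (_root_.commutator G) := by
  classical
  haveI := Fintype.ofFinite G
  have hset : ((Cfsg.Lib.Char.classFinset x : Finset G) : Set G) =
      (_root_.commutator G : Set G) \ (N : Set G) := by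
    ext y
    rw [Finset.mem_coe, Cfsg.Lib.Char.mem_classFinset, Set.mem_sdiff, SetLike.mem_coe, SetLike.mem_coe]
    constructor
    · rintro h
      obtain ⟨c, rfl⟩ := isConj_iff.mp h
      refine ⟨Subgroup.Normal.conj_mem inferInstance _ hxM c, fun hy => hxN ?_⟩
      simpa [mul_assoc] using Subgroup.Normal.conj_mem ‹N.Normal› _ hy c⁻¹
    · rintro ⟨h1, h2⟩
      exact (hclass x hxM hxN).symm.trans (hclass y h1 h2)
  have h1 : (centralizer ({x} : Set G)).index = Nat.card (_root_.commutator G) - Nat.card N := by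
    rw [← Cfsg.Lib.Char.card_classFinset, ← Set.ncard_coe_finset, hset,
      Set.ncard_sdiff (SetLike.coe_subset_coe.mpr hNM), ← Nat.card_coe_set_eq, ← Nat.card_coe_set_eq]
    rfl
  have h2 : Nat.card N * N.relIndex (_root_.commutator G) = Nat.card (_root_.commutator G) := by
    rw [← Nat.card_congr (subgroupOfEquivOfLe hNM).toEquiv]
    exact card_mul_index _
  have h3 := (centralizer ({x} : Set G)).card_mul_index
  rw [h1, ← (_root_.commutator G).card_mul_index, ← h2,
    show Nat.card N * N.relIndex (_root_.commutator G) - Nat.card N =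
      Nat.card N * (N.relIndex (_root_.commutator G) - 1) by rw [Nat.mul_sub_left_distrib, mul_one],
    mul_left_comm] at h3
  refine Nat.eq_of_mul_eq_mul_left (Nat.card_pos (α := N)) (h3.trans ?_)
  ring

theorem exists_prime :
    ∃ p n : ℕ, p.Prime ∧ 0 < n ∧ N.relIndex (_root_.commutator G) = p ^ n ∧
      (∀ x ∈ _root_.commutator G, x ^ p ∈ N) ∧ (∃ a, orderOf g = p ^ a) ∧
      ∀ x ∈ _root_.commutator G, ∀ y ∈ _root_.commutator G, ⁅x, y⁆ ∈ N := by
  classical
  set o := orderOf (g : G ⧸ N) with hodef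
  have ho : o ≠ 1 := fun h => hgN ((QuotientGroup.eq_one_iff g).mp (orderOf_eq_one_iff.mp h))
  obtain ⟨p, hp, hpo⟩ := Nat.exists_prime_and_dvd ho
  haveI : Fact p.Prime := ⟨hp⟩
  have hpow : ∀ (x : G) (i : ℕ), x ^ i ∈ N ↔ orderOf (x : G ⧸ N) ∣ i := fun x i => by
    rw [orderOf_dvd_iff_pow_eq_one, ← QuotientGroup.mk_pow, QuotientGroup.eq_one_iff]
  have hgp : g ^ p ∈ N := by
    obtain ⟨j, hj⟩ := hpo
    have hopos : 0 < o := orderOf_pos _
    have hj0 : 0 < j := Nat.pos_of_ne_zero fun h => by simp [h] at hj; omega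
    have hy : g ^ j ∉ N := fun h => by
      have h1 := Nat.le_of_dvd hj0 ((hpow g j).mp h)
      rw [← hodef, hj] at h1
      exact absurd h1 (not_le.mpr (by nlinarith [hp.two_le]))
    obtain ⟨c, hc⟩ := isConj_iff.mp (hclass _ (pow_mem hgM j) hy)
    have h1 : (g ^ j) ^ p ∈ N := by
      rw [← pow_mul, hpow, ← hodef, hj, mul_comm]
    rw [← hc, conj_pow] at h1
    simpa [mul_assoc] using Subgroup.Normal.conj_mem ‹N.Normal› _ h1 c⁻¹
  have hexp : ∀ x ∈ _root_.commutator G, x ^ p ∈ N := by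
    intro x hx
    by_cases hxN : x ∈ N
    · exact pow_mem hxN p
    obtain ⟨c, rfl⟩ := isConj_iff.mp (hclass x hx hxN)
    rw [conj_pow]
    exact Subgroup.Normal.conj_mem ‹N.Normal› _ hgp c
  have horder : o = p :=
    ((Nat.dvd_prime hp).mp ((hpow g p).mp hgp)).resolve_left ho
  have hga : ∃ a, orderOf g = p ^ a := by
    obtain ⟨a, m, hm, he⟩ := Nat.exists_eq_pow_mul_and_not_dvd (orderOf_pos g).ne' p hp.ne_one
    refine ⟨a, ?_⟩
    have hgm : g ^ m ∉ N := fun h => hm (horder ▸ (hpow g m).mp h)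
    obtain ⟨c, hc⟩ := isConj_iff.mp (hclass _ (pow_mem hgM m) hgm)
    have h2 : orderOf (g ^ m) = orderOf g := by
      rw [← hc, ← MulAut.conj_apply, MulEquiv.orderOf_eq]
    have hm0 : m ≠ 0 := fun h => hm (by rw [h]; exact dvd_zero p)
    rw [← h2, orderOf_pow_of_dvd hm0 (he ▸ dvd_mul_left m _), he,
      Nat.mul_div_cancel _ (Nat.pos_of_ne_zero hm0)]
  set M := _root_.commutator G
  have hPq : IsPGroup p (M ⧸ N.subgroupOf M) := by
    intro x
    obtain ⟨y, rfl⟩ := QuotientGroup.mk_surjective x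
    exact ⟨1, by rw [pow_one, ← QuotientGroup.mk_pow, QuotientGroup.eq_one_iff]; exact hexp y y.2⟩
  haveI : Nontrivial (M ⧸ N.subgroupOf M) :=
    ⟨⟨((⟨g, hgM⟩ : M) : M ⧸ N.subgroupOf M), 1, fun h => hgN (mem_subgroupOf.mp ((QuotientGroup.eq_one_iff _).mp h))⟩⟩
  obtain ⟨n, hn⟩ := IsPGroup.iff_card.mp hPq
  have hn0 : 0 < n := Nat.pos_of_ne_zero fun h => by
    have := Finite.one_lt_card (α := M ⧸ N.subgroupOf M)
    rw [hn, h] at this
    simp at this
  refine ⟨p, n, hp, hn0, hn, hexp, hga, fun x hx y hy => ?_⟩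
  -- the quotient is abelian
  obtain ⟨⟨z', hz'⟩, hz1⟩ := @exists_ne _ (hPq.center_nontrivial) 1
  obtain ⟨⟨z, hzM⟩, rfl⟩ := QuotientGroup.mk_surjective z'
  have hzN : z ∉ N := fun h => hz1 (Subtype.ext ((QuotientGroup.eq_one_iff _).mpr (mem_subgroupOf.mpr h)))
  have hzc : ∀ w ∈ M, ⁅z, w⁆ ∈ N := by
    intro w hw
    have h1 := mem_center_iff.mp hz' ((⟨w, hw⟩ : M) : M ⧸ N.subgroupOf M)
    have h2 : ((⁅(⟨z, hzM⟩ : M), ⟨w, hw⟩⁆ : M) : M ⧸ N.subgroupOf M) = 1 := by
      have := map_commutatorElement (QuotientGroup.mk' (N.subgroupOf M)) (⟨z, hzM⟩ : M) ⟨w, hw⟩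
      simp only [QuotientGroup.mk'_apply] at this
      rw [this, commutatorElement_eq_one_iff_commute]
      exact h1.symm
    exact mem_subgroupOf.mp ((QuotientGroup.eq_one_iff _).mp h2)
  by_cases hxN : x ∈ N
  · rw [commutatorElement_def, mul_assoc, mul_assoc]
    exact mul_mem hxN (by simpa [mul_assoc] using Subgroup.Normal.conj_mem ‹N.Normal› _ (inv_mem hxN) y)
  obtain ⟨c, rfl⟩ := isConj_iff.mp ((hclass z hzM hzN).symm.trans (hclass x hx hxN))
  have h1 := hzc (c⁻¹ * y * c) (by simpa [mul_assoc] using Subgroup.Normal.conj_mem inferInstance _ hy c⁻¹)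
  have h2 := Subgroup.Normal.conj_mem ‹N.Normal› _ h1 c
  convert h2 using 1
  simp only [commutatorElement_def]
  group

omit [Finite G] hgM hgN hclass in
/-- `G / G'` and `G' / N` are abelian. -/
theorem isSolvable_of_normal (hab : ∀ x ∈ _root_.commutator G, ∀ y ∈ _root_.commutator G, ⁅x, y⁆ ∈ N)
    (hN : Group.IsSolvable N) : Group.IsSolvable G := by
  set π := QuotientGroup.mk' N
  have hW : _root_.commutator (G ⧸ N) = (_root_.commutator G).map π := by
    rw [_root_.commutator_def, _root_.commutator_def, map_commutator,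
      map_top_of_surjective _ (QuotientGroup.mk'_surjective N)]
  have h1 : Group.IsSolvable (_root_.commutator (G ⧸ N)) := Group.isSolvable_of_comm fun a b => by
    obtain ⟨x, hx, hxa⟩ : (a : G ⧸ N) ∈ (_root_.commutator G).map π := by rw [← hW]; exact a.2
    obtain ⟨y, hy, hyb⟩ : (b : G ⧸ N) ∈ (_root_.commutator G).map π := by rw [← hW]; exact b.2
    apply Subtype.ext
    rw [Subgroup.coe_mul, Subgroup.coe_mul, ← hxa, ← hyb]
    refine (commutatorElement_eq_one_iff_commute.mp ?_).eq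
    rw [← map_commutatorElement, QuotientGroup.mk'_apply, QuotientGroup.eq_one_iff]
    exact hab x hx y hy
  have h2 : Group.IsSolvable ((G ⧸ N) ⧸ _root_.commutator (G ⧸ N)) := Group.isSolvable_of_comm fun a b =>
    (Subgroup.Normal.quotient_commutative_iff_commutator_le.mpr le_rfl).is_comm.comm a b
  exact (Group.isSolvable_iff_subgroup_quotient N).mpr
    ⟨hN, (Group.isSolvable_iff_subgroup_quotient (_root_.commutator (G ⧸ N))).mpr ⟨h1, h2⟩⟩

end Cfsg.Lib.FPF
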