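import Cfsg.Agent.Lib.FPF.LoneClass

/-!
# Solvability when the derived subgroup is a normal subgroup and one class
-/

set_option autoImplicit false
set_option linter.style.haveILetI false

namespace Cfsg.Lib.FPF

open Subgroup
open scoped commutatorElement

universe u

theorem centralizer_nonabelian {R : Type u} [Group R] [Finite R] (z : R)
    (hcomm : ∀ a b : R, ⁅a, b⁆ = 1 ∨ ⁅a, b⁆ = z) (hcenter : ∀ c ∈ center R, c = 1 ∨ c = z)
    (hcard : 8 < Nat.card R) (u : R) : ∃ x y, Commute x u ∧ Commute y u ∧ ⁅x, y⁆ = z := by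
  by_contra hne
  push Not at hne
  have hab : ∀ x ∈ centralizer ({u} : Set R), ∀ y ∈ centralizer ({u} : Set R), Commute x y := by
    intro x hx y hy
    rcases hcomm x y with h | h
    · exact commutatorElement_eq_one_iff_commute.mp h
    · exact absurd h (hne x y (mem_centralizer_singleton_iff.mp hx) (mem_centralizer_singleton_iff.mp hy))
  have hidx : ∀ t : R, (centralizer ({t} : Set R)).index ≤ 2 := by
    intro t
    classical
    rw [index_eq_card]
    have e : ∀ a b : R, a⁻¹ * b ∈ centralizer ({t} : Set R) ↔ a * t * a⁻¹ = b * t * b⁻¹ := fun a b => by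
      rw [mem_centralizer_singleton_iff]
      constructor
      · intro h
        calc a * t * a⁻¹ = a * (t * (a⁻¹ * b)) * b⁻¹ := by group
          _ = a * (a⁻¹ * b * t) * b⁻¹ := by rw [h]
          _ = b * t * b⁻¹ := by group
      · intro h
        calc a⁻¹ * b * t = a⁻¹ * (b * t * b⁻¹) * b := by group
          _ = a⁻¹ * (a * t * a⁻¹) * b := by rw [h]
          _ = t * (a⁻¹ * b) := by group
    let f : R ⧸ centralizer ({t} : Set R) → ({t, z * t} : Finset R) :=
      Quotient.lift (fun x => ⟨x * t * x⁻¹, by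
        rw [Finset.mem_insert, Finset.mem_singleton]
        rcases hcomm x t with h | h <;> rw [commutatorElement_def] at h
        · exact Or.inl (mul_inv_eq_one.mp h)
        · exact Or.inr (mul_inv_eq_iff_eq_mul.mp h)⟩) fun a b hab =>
        Subtype.ext ((e a b).mp (QuotientGroup.leftRel_apply.mp hab))
    have hinj : Function.Injective f := by
      rintro ⟨a⟩ ⟨b⟩ h
      exact QuotientGroup.eq.mpr ((e a b).mpr (congrArg Subtype.val h))
    refine (Nat.card_le_card_of_injective f hinj).trans ?_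
    rw [Nat.card_eq_fintype_card, Fintype.card_coe]
    exact Finset.card_le_two
  set B := centralizer ({u} : Set R) with hB
  have hcen2 : Nat.card (center R) ≤ 2 := by
    classical
    refine (Nat.card_le_card_of_injective (fun c : center R => (⟨(c : R), by
      rw [Finset.mem_insert, Finset.mem_singleton]; exact hcenter c c.2⟩ : ({1, z} : Finset R)))
      fun a b h => Subtype.ext (by simpa using congrArg Subtype.val h)).trans ?_
    rw [Nat.card_eq_fintype_card, Fintype.card_coe]
    exact Finset.card_le_two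
  by_cases hBtop : B = ⊤
  · have : Nat.card R ≤ Nat.card (center R) := by
      refine Nat.card_le_card_of_injective (fun x : R => (⟨x, mem_center_iff.mpr fun y =>
        (hab y (hBtop ▸ mem_top y) x (hBtop ▸ mem_top x)).eq⟩ : center R)) fun a b h => congrArg Subtype.val h
    omega
  obtain ⟨t, ht⟩ : ∃ t, t ∉ B := by
    by_contra hc
    push Not at hc
    exact hBtop (eq_top_iff.mpr fun x _ => hc x)
  have hsub : B ⊓ centralizer ({t} : Set R) ≤ center R := by
    intro b hb
    rw [mem_center_iff]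
    have hle : B < centralizer ({b} : Set R) := by
      refine lt_of_le_of_ne (fun x hx => mem_centralizer_singleton_iff.mpr (hab x hx b hb.1).eq) fun h => ?_
      exact ht (h ▸ mem_centralizer_singleton_iff.mpr (mem_centralizer_singleton_iff.mp hb.2).symm)
    have hlt := index_strictAnti hle
    have hpos := (centralizer ({b} : Set R)).index_ne_zero_of_finite
    have htop : centralizer ({b} : Set R) = ⊤ := index_eq_one.mp (by have := hidx u; rw [← hB] at this; omega)
    intro y
    exact mem_centralizer_singleton_iff.mp (htop ▸ mem_top y)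
  have h1 := B.card_mul_index
  have h2 : (centralizer ({t} : Set R)).relIndex B ≤ 2 :=
    ((relIndex_le_of_le_right (le_top : B ≤ ⊤) (by rw [relIndex_top_right]; exact index_ne_zero_of_finite)).trans_eq
      (relIndex_top_right _)).trans (hidx t)
  have h3 : Nat.card ↥(B ⊓ centralizer ({t} : Set R)) ≤ 2 :=
    (Nat.le_of_dvd Nat.card_pos (card_dvd_of_le hsub)).trans hcen2
  have h4 : Nat.card ↥(B ⊓ centralizer ({t} : Set R)) * (centralizer ({t} : Set R)).relIndex B = Nat.card B := by
    rw [← inf_relIndex_right, inf_comm (centralizer ({t} : Set R)) B,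
      ← Nat.card_congr (subgroupOfEquivOfLe (inf_le_left : B ⊓ centralizer ({t} : Set R) ≤ B)).toEquiv]
    exact card_mul_index _
  have h5 := hidx u
  rw [← hB] at h5
  nlinarith

variable {G : Type u} [Group G] [Finite G] {p : ℕ} {g : G} {N : Subgroup G} [N.Normal]
  (hNM : N ≤ _root_.commutator G) (hgM : g ∈ _root_.commutator G)
  (hgN : g ∉ N) (hclass : ∀ x ∈ _root_.commutator G, x ∉ N → IsConj g x)
  (hcen : ∀ x : G, (∀ y, ⁅x, y⁆ ∈ N) → x ∈ _root_.commutator G)

include hNM hgM hgN hclass hcen

/-- The case of a quotient of order two. -/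
theorem isSolvable_of_two {a : ℕ} (hQ : N.relIndex (_root_.commutator G) = 2) (hga : orderOf g = 2 ^ a) {d : ℕ}
    (hd : 2 ≤ d) (hdeg : d ^ 2 = (_root_.commutator G).index) : Group.IsSolvable G := by
  haveI : Fact (Nat.Prime 2) := ⟨Nat.prime_two⟩
  have h2 : ∀ x ∈ _root_.commutator G, ∀ y ∈ _root_.commutator G, x * y ∈ N ↔ (x ∈ N ↔ y ∈ N) := fun x hx y hy => by
    have := mul_mem_iff_of_index_two (H := N.subgroupOf (_root_.commutator G)) hQ (a := ⟨x, hx⟩) (b := ⟨y, hy⟩)
    simpa only [mem_subgroupOf, MulMemClass.mk_mul_mk] using this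
  have hdiv : ∀ x ∈ _root_.commutator G, x ∉ N → g⁻¹ * x ∈ N := fun x hx hxN =>
    (h2 _ (inv_mem hgM) _ hx).mpr (iff_of_false (fun h => hgN (inv_mem_iff.mp h)) hxN)
  set π := QuotientGroup.mk' N with hπ
  set z := π g
  have hM : ∀ a b : G, ⁅a, b⁆ ∈ _root_.commutator G := fun a b => commutator_mem_commutator (mem_top _) (mem_top _)
  have hzval : ∀ x ∈ _root_.commutator G, π x = 1 ∨ π x = z := fun x hx => by
    by_cases hxN : x ∈ N
    · exact Or.inl ((QuotientGroup.eq_one_iff x).mpr hxN)
    · exact Or.inr (QuotientGroup.eq.mpr (hdiv x hx hxN)).symm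
  have hzc : ∀ r, Commute r z := by
    intro r
    obtain ⟨y, rfl⟩ := QuotientGroup.mk'_surjective N r
    have hy : y * g * y⁻¹ ∉ N := fun h => hgN (by
      simpa [mul_assoc] using Subgroup.Normal.conj_mem ‹N.Normal› _ h y⁻¹)
    have h := QuotientGroup.eq.mpr (hdiv _ (Subgroup.Normal.conj_mem inferInstance _ hgM y) hy)
    have h' : π g = π y * π g * (π y)⁻¹ := by
      rw [← map_inv, ← _root_.map_mul, ← _root_.map_mul]; exact h
    exact (eq_mul_inv_iff_mul_eq.mp h').symm
  have hz2 : z * z = 1 := by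
    rw [← _root_.map_mul, hπ, QuotientGroup.mk'_apply, QuotientGroup.eq_one_iff]
    exact (h2 g hgM g hgM).mpr Iff.rfl
  have hcomm : ∀ r s : G ⧸ N, ⁅r, s⁆ = 1 ∨ ⁅r, s⁆ = z := by
    intro r s
    obtain ⟨x, rfl⟩ := QuotientGroup.mk'_surjective N r
    obtain ⟨y, rfl⟩ := QuotientGroup.mk'_surjective N s
    rw [← map_commutatorElement]
    exact hzval _ (hM x y)
  have hcenter : ∀ c ∈ center (G ⧸ N), c = 1 ∨ c = z := by
    intro c hc
    obtain ⟨x, rfl⟩ := QuotientGroup.mk'_surjective N c
    refine hzval x (hcen x fun y => ?_)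
    rw [← QuotientGroup.eq_one_iff, ← QuotientGroup.mk'_apply, map_commutatorElement,
      commutatorElement_eq_one_iff_commute]
    exact (mem_center_iff.mp hc (π y)).symm
  set k := (_root_.commutator G).index with hk
  have hN2 : N.index = 2 * k := by rw [← relIndex_mul_index hNM, hQ]
  have hR : IsPGroup 2 (G ⧸ N) := by
    intro r
    refine ⟨2, ?_⟩
    have hsq : r ^ 2 ∈ center (G ⧸ N) := by
      rw [mem_center_iff]
      intro s
      refine (commutatorElement_eq_one_iff_commute.mp ?_).eq.symm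
      rw [pow_two, commutatorElement_mul_left_eq_conj_mul]
      rcases hcomm r s with h | h <;> rw [h]
      · simp
      · rw [(hzc r).eq, mul_inv_cancel_right, hz2]
    rw [show (2 : ℕ) ^ 2 = 2 * 2 from rfl, pow_mul]
    rcases hcenter _ hsq with h | h <;> rw [h]
    · exact one_pow 2
    · rw [pow_two, hz2]
  obtain ⟨e, he⟩ := IsPGroup.iff_card.mp hR
  rw [← index_eq_card] at he
  have hC : Nat.card (centralizer ({g} : Set G)) = 2 * k := by
    have := card_centralizer_mul hNM hgM hgN hclass hgM hgN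
    rw [hQ, show (2 : ℕ) - 1 = 1 from rfl, mul_one] at this
    rw [this, ← hk, mul_comm]
  have hzp : IsPGroup 2 (zpowers g) := IsPGroup.of_card (n := a) (by rw [Nat.card_zpowers, hga])
  obtain ⟨P, hP⟩ := hzp.exists_le_sylow
  have hgP : g ∈ (P : Subgroup G) := hP (mem_zpowers g)
  have hsup := Cfsg.Lib.Fusion.sylow_sup_eq_top P N ⟨e, he⟩
  have hcardP : Nat.card P = Nat.card ↥((P : Subgroup G) ⊓ N) * (2 * k) := by
    rw [card_eq_inf_mul_relIndex (P : Subgroup G) N hsup, relIndex_top_right, hN2]
  have hgc : ∀ y ∈ (P : Subgroup G), ⁅g, y⁆ ∈ N := fun y _ => by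
    rw [← QuotientGroup.eq_one_iff, ← QuotientGroup.mk'_apply, map_commutatorElement,
      commutatorElement_eq_one_iff_commute]
    exact (hzc _).symm
  have hcoset := coset_class (P : Subgroup G) N hgP hgc (by rw [hC, hcardP, mul_comm])
  have hN0 : ∀ w ∈ (P : Subgroup G) ⊓ N, w ∈ ⁅(P : Subgroup G), (P : Subgroup G)⁆ := by
    intro w hw
    obtain ⟨y, hy, hyw⟩ := hcoset w hw
    have : w = ⁅g⁻¹, y⁆ := by
      rw [← inv_mul_cancel_left g w, ← hyw]; simp only [commutatorElement_def]; group
    exact this ▸ commutator_mem_commutator (inv_mem hgP) hy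
  -- the fourth power of `g` is one
  have hg4 : g ^ 4 = 1 := by
    obtain ⟨n, hn⟩ := IsPGroup.iff_card.mp P.2
    have hlift : ∀ r : G ⧸ N, ∃ y : (P : Subgroup G), π y = r := by
      intro r
      obtain ⟨x, rfl⟩ := QuotientGroup.mk'_surjective N r
      have : x ∈ (P : Subgroup G) ⊔ N := hsup ▸ mem_top x
      obtain ⟨y, hy, w, hw, rfl⟩ := mem_sup_of_normal_right.mp this
      refine ⟨⟨y, hy⟩, ?_⟩
      rw [_root_.map_mul, show π w = 1 from (QuotientGroup.eq_one_iff w).mpr hw, mul_one]
    haveI := P.2.isNilpotent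
    set g₀ : (P : Subgroup G) := ⟨g, hgP⟩
    set V := N.subgroupOf (P : Subgroup G) with hV
    by_cases hk4 : 4 < k
    · set L := ⁅V, (⊤ : Subgroup (P : Subgroup G))⁆ with hLdef
      haveI : L.Normal := Subgroup.commutator_normal _ _
      set ρ := QuotientGroup.mk' L
      have hVc : ∀ w ∈ V, ∀ r, Commute (ρ w) r := by
        intro w hw r
        obtain ⟨y, rfl⟩ := QuotientGroup.mk'_surjective L r
        rw [← commutatorElement_eq_one_iff_commute, ← map_commutatorElement, QuotientGroup.mk'_apply,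
          QuotientGroup.eq_one_iff]
        exact commutator_mem_commutator hw (mem_top y)
      have hVmem : ∀ w : (P : Subgroup G), π w = 1 → w ∈ V := fun w hw =>
        mem_subgroupOf.mpr ((QuotientGroup.eq_one_iff (w : G)).mp hw)
      have hgcomm : ∀ w : (P : Subgroup G), Commute (ρ g₀) (ρ w) := by
        intro w
        obtain ⟨r, s, hr, hs, hrs⟩ := centralizer_nonabelian z hcomm hcenter
          (by rw [← index_eq_card, hN2]; omega) (π (w : G))
        obtain ⟨x, rfl⟩ := hlift r
        obtain ⟨y, rfl⟩ := hlift s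
        have key : ∀ v : (P : Subgroup G), Commute (π (v : G)) (π (w : G)) →
            ∃ b, (∀ q, Commute b q) ∧ ρ w * ρ v * (ρ w)⁻¹ = b * ρ v := by
          intro v hv
          refine ⟨ρ ⁅w, v⁆, hVc _ (hVmem _ ?_), ?_⟩
          · show π ((P : Subgroup G).subtype ⁅w, v⁆) = 1
            rw [map_commutatorElement, map_commutatorElement, commutatorElement_eq_one_iff_commute]
            exact hv.symm
          · rw [map_commutatorElement, commutatorElement_def]; group
        obtain ⟨b, hb, hbx⟩ := key x hr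
        obtain ⟨c, hc, hcy⟩ := key y hs
        obtain ⟨v, hv, hxy⟩ : ∃ v ∈ V, g₀ = ⁅x, y⁆ * v := by
          refine ⟨⁅x, y⁆⁻¹ * g₀, hVmem _ ?_, by group⟩
          show π ((P : Subgroup G).subtype (⁅x, y⁆⁻¹ * g₀)) = 1
          rw [_root_.map_mul, _root_.map_mul, _root_.map_inv, _root_.map_inv, map_commutatorElement,
            map_commutatorElement]
          exact mul_eq_one_iff_eq_inv.mpr (by rw [show π ((P : Subgroup G).subtype g₀) = z from rfl]; exact (inv_inj.mpr hrs).trans rfl)
        have hconj : MulAut.conj (ρ w) ⁅ρ x, ρ y⁆ = ⁅ρ x, ρ y⁆ := by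
          rw [map_commutatorElement, MulAut.conj_apply, MulAut.conj_apply, hbx, hcy]
          simp only [commutatorElement_def, mul_inv_rev]
          calc b * ρ x * (c * ρ y) * ((ρ x)⁻¹ * b⁻¹) * ((ρ y)⁻¹ * c⁻¹)
              = b * ρ x * (c * ρ y) * (ρ x)⁻¹ * (b⁻¹ * (ρ y)⁻¹) * c⁻¹ := by group
            _ = b * ((ρ x * c) * ρ y * (ρ x)⁻¹ * (ρ y)⁻¹) * b⁻¹ * c⁻¹ := by
              rw [((hb (ρ y)⁻¹).inv_left).eq]; group
            _ = (b * c) * (ρ x * ρ y * (ρ x)⁻¹ * (ρ y)⁻¹) * b⁻¹ * c⁻¹ := by
              rw [(hc (ρ x)).eq.symm]; group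
            _ = ρ x * ρ y * (ρ x)⁻¹ * (ρ y)⁻¹ * ((b * c) * b⁻¹ * c⁻¹) := by
              rw [((hb _).mul_left (hc _)).eq]; group
            _ = ρ x * ρ y * (ρ x)⁻¹ * (ρ y)⁻¹ := by
              rw [(hb c).eq]; group
        rw [hxy, _root_.map_mul, map_commutatorElement]
        refine Commute.mul_left ?_ (hVc v hv _)
        exact (mul_inv_eq_iff_eq_mul.mp (by rw [← MulAut.conj_apply]; exact hconj)).symm
      have hVL : V ≤ L := by
        intro w hw
        obtain ⟨y, hy, hyw⟩ := hcoset (w : G) ⟨w.2, hw⟩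
        have hw' : w = ⁅g₀⁻¹, ⟨y, hy⟩⁆ := Subtype.ext (by
          show (w : G) = (P : Subgroup G).subtype ⁅g₀⁻¹, ⟨y, hy⟩⁆
          rw [map_commutatorElement, map_inv, ← inv_mul_cancel_left g (w : G), ← hyw]
          simp only [commutatorElement_def]
          group
          rfl)
        rw [← QuotientGroup.eq_one_iff, ← QuotientGroup.mk'_apply, hw', map_commutatorElement,
          commutatorElement_eq_one_iff_commute, map_inv]
        exact (hgcomm _).inv_left
      have hVbot : V = ⊥ := by
        by_contra hne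
        exact Cfsg.Lib.PGroup.commutator_ne_self_of_isNilpotent (P := (⊤ : Subgroup (P : Subgroup G))) hne
          (le_antisymm (commutator_le_left _ _) hVL)
      have : (⟨g * g, mul_mem hgP hgP⟩ : (P : Subgroup G)) ∈ V :=
        mem_subgroupOf.mpr ((h2 g hgM g hgM).mpr Iff.rfl)
      rw [hVbot, mem_bot] at this
      have h' : g * g = 1 := congrArg Subtype.val this
      rw [show (4 : ℕ) = 2 * 2 from rfl, pow_mul, pow_two g, h', one_pow]
    · have hd2 : d = 2 := le_antisymm (by nlinarith) hd
      have hk' : k = 4 := by rw [← hdeg, hd2]; rfl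
      have hcomP : _root_.commutator (P : Subgroup G) = (_root_.commutator G).subgroupOf (P : Subgroup G) := by
        have hsubtype : ∀ {w : G}, w ∈ ⁅(P : Subgroup G), (P : Subgroup G)⁆ →
            ∃ v ∈ _root_.commutator (P : Subgroup G), (v : G) = w := fun {w} hw => by
          rw [← map_subtype_commutator] at hw
          exact hw
        have hg' : g₀ ∈ _root_.commutator (P : Subgroup G) := by
          obtain ⟨x, y, hxy⟩ : ∃ x y : (P : Subgroup G), ⁅(x : G), (y : G)⁆ ∉ N := by
            by_contra hc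
            push Not at hc
            refine hgN ?_
            have hle : _root_.commutator G ≤ N := by
              rw [_root_.commutator_def, commutator_le]
              intro x _ y _
              obtain ⟨x', hx'⟩ := hlift (π x)
              obtain ⟨y', hy'⟩ := hlift (π y)
              rw [← QuotientGroup.eq_one_iff, ← QuotientGroup.mk'_apply, map_commutatorElement, ← hx', ← hy',
                ← map_commutatorElement, QuotientGroup.mk'_apply, QuotientGroup.eq_one_iff]
              exact hc x' y'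
            exact hle hgM
          have hw : (⁅x, y⁆⁻¹ * g₀ : (P : Subgroup G)) ∈ _root_.commutator (P : Subgroup G) := by
            obtain ⟨v, hv, hve⟩ := hsubtype (hN0 (((⁅x, y⁆⁻¹ * g₀ : (P : Subgroup G))) : G)
              ⟨Subtype.prop _, by
                show (P : Subgroup G).subtype (⁅x, y⁆⁻¹ * g₀) ∈ N
                rw [_root_.map_mul, _root_.map_inv, map_commutatorElement]
                exact (h2 _ (inv_mem (hM _ _)) _ hgM).mpr (iff_of_false (fun h => hxy (inv_mem_iff.mp h)) hgN)⟩)
            exact Subtype.ext hve ▸ hv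
          have h' := mul_mem (commutator_mem_commutator (mem_top x) (mem_top y) :
            ⁅x, y⁆ ∈ _root_.commutator (P : Subgroup G)) hw
          rwa [mul_inv_cancel_left] at h'
        refine le_antisymm ?_ fun w hw => ?_
        · rw [_root_.commutator_def, commutator_le]
          intro x _ y _
          rw [mem_subgroupOf]
          show (P : Subgroup G).subtype ⁅x, y⁆ ∈ _root_.commutator G
          rw [map_commutatorElement]
          exact hM _ _
        · have key : ∀ v : (P : Subgroup G), (v : G) ∈ N → v ∈ _root_.commutator (P : Subgroup G) := fun v hv => by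
            obtain ⟨v', hv', e'⟩ := hsubtype (hN0 v ⟨v.2, hv⟩)
            exact Subtype.ext e' ▸ hv'
          by_cases hwN : (w : G) ∈ N
          · exact key w hwN
          · simpa using mul_mem hg' (key (g₀⁻¹ * w) (hdiv _ hw hwN))
      have hidx4 : (_root_.commutator (P : Subgroup G)).index = 4 := by
        show _ = 4
        rw [hcomP, ← hk', hk]
        show (_root_.commutator G).relIndex (P : Subgroup G) = _
        have hsupM : (P : Subgroup G) ⊔ _root_.commutator G = ⊤ :=
          eq_top_iff.mpr (hsup ▸ sup_le_sup_left hNM (P : Subgroup G))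
        rw [← relIndex_sup_right (H := (P : Subgroup G)) (K := _root_.commutator G), hsupM, relIndex_top_right]
      have hn3 : 3 ≤ n := by
        by_contra hc
        have h1 : Nat.card P ≤ 2 ^ 2 := hn ▸ Nat.pow_le_pow_right two_pos (by omega)
        have h3 : 0 < Nat.card ↥((P : Subgroup G) ⊓ N) := Nat.card_pos
        rw [hcardP, hk'] at h1
        omega
      obtain ⟨A, hAc, hA2⟩ := TwoGroup.MaximalClass.exists_cyclic_index_two n hn3 (P : Subgroup G) hn
        (TwoGroup.MaximalClass.class_of_index_four n hn3 (P : Subgroup G) hn hidx4)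
      have hPA : _root_.commutator (P : Subgroup G) ≤ A := by
        rw [_root_.commutator_def, commutator_le]
        intro x _ y _
        simp only [commutatorElement_def, mul_mem_iff_of_index_two hA2, inv_mem_iff]
        tauto
      have hgP' : g₀ ∈ _root_.commutator (P : Subgroup G) := hcomP ▸ mem_subgroupOf.mpr hgM
      haveI := hAc
      letI : CommGroup A := IsCyclic.commGroup
      have hA8 : Nat.card A ∣ 8 := by
        have hle : A.map (P : Subgroup G).subtype ≤ centralizer ({g} : Set G) := by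
          rintro _ ⟨x, hx, rfl⟩
          rw [mem_centralizer_singleton_iff]
          exact congrArg (fun v : A => ((v : (P : Subgroup G)) : G))
            (mul_comm (⟨x, hx⟩ : A) ⟨g₀, hPA hgP'⟩)
        have := card_dvd_of_le hle
        rwa [card_map_of_injective (P : Subgroup G).subtype_injective, hC, hk'] at this
      have h4 : Nat.card (_root_.commutator (P : Subgroup G)) * 2 = Nat.card A := by
        have e1 := (_root_.commutator (P : Subgroup G)).card_mul_index
        have e2 := A.card_mul_index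
        rw [hidx4] at e1
        rw [hA2] at e2
        omega
      have h5 : orderOf g₀ ∣ 4 := by
        refine (Subgroup.orderOf_mk g₀ hgP' ▸ orderOf_dvd_natCard _ : orderOf g₀ ∣
          Nat.card (_root_.commutator (P : Subgroup G))).trans ?_
        refine Nat.dvd_of_mul_dvd_mul_right two_pos ?_
        rw [h4]
        exact hA8
      exact congrArg Subtype.val (orderOf_dvd_iff_pow_eq_one.mp h5)
  refine isSolvable_of_normal hNM (fun x hx y hy => ?_) (isSolvable_of_small_centralizer N
    (hasNormalPComplement_of_inf_le_commutator P N hN0) (m := e) (by rw [hC, ← hN2, he]) (Or.inr hg4))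
  rw [← QuotientGroup.eq_one_iff, ← QuotientGroup.mk'_apply, map_commutatorElement,
    commutatorElement_eq_one_iff_commute]
  rcases hzval x hx with h | h <;> rw [h]
  · exact Commute.one_left _
  · exact (hzc _).symm

/-- The case of a quotient of order more than two. -/
theorem isSolvable_of_large [hp : Fact p.Prime] {n a : ℕ} (hn : 0 < n)
    (hQ : N.relIndex (_root_.commutator G) = p ^ n) (hQ2 : 2 < p ^ n)
    (hexp : ∀ x ∈ _root_.commutator G, x ^ p ∈ N) (hga : orderOf g = p ^ a)
    (hab : ∀ x ∈ _root_.commutator G, ∀ y ∈ _root_.commutator G, ⁅x, y⁆ ∈ N) : Group.IsSolvable G := by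
  classical
  set M := _root_.commutator G with hMdef
  set π := QuotientGroup.mk' N with hπ
  set W := M.map π with hW
  haveI : W.Normal := (inferInstance : M.Normal).map π (QuotientGroup.mk'_surjective N)
  have hmk : ∀ x ∈ M, π x ∈ W := fun x hx => mem_map_of_mem π hx
  have hWab : ∀ x ∈ W, ∀ y ∈ W, x * y = y * x := by
    rintro _ ⟨x, hx, rfl⟩ _ ⟨y, hy, rfl⟩
    refine (commutatorElement_eq_one_iff_commute.mp ?_).eq
    rw [← map_commutatorElement, hπ, QuotientGroup.mk'_apply, QuotientGroup.eq_one_iff]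
    exact hab x hx y hy
  have hWcomm : ∀ r s : G ⧸ N, ⁅r, s⁆ ∈ W := by
    intro r s
    obtain ⟨x, rfl⟩ := QuotientGroup.mk'_surjective N r
    obtain ⟨y, rfl⟩ := QuotientGroup.mk'_surjective N s
    rw [← map_commutatorElement]
    exact hmk _ (commutator_mem_commutator (mem_top _) (mem_top _))
  set v := π g
  have hv1 : v ≠ 1 := fun h => hgN ((QuotientGroup.eq_one_iff g).mp h)
  have htrans : ∀ b ∈ W, b ≠ 1 → ∃ r, r * v * r⁻¹ = b := by
    rintro _ ⟨x, hx, rfl⟩ hb
    obtain ⟨c, hc⟩ := isConj_iff.mp (hclass x hx fun h => hb ((QuotientGroup.eq_one_iff x).mpr h))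
    exact ⟨π c, by rw [← hc, _root_.map_mul, _root_.map_mul, _root_.map_inv]⟩
  obtain ⟨F, _, _, _, h, α, e, he, hadd, hcardF, hα, heq, hcov⟩ :=
    exists_regular_field W hWab hWcomm (hmk g hgM) hv1 htrans (p := p) (by
      rintro _ ⟨x, hx, rfl⟩
      rw [← _root_.map_pow, hπ, QuotientGroup.mk'_apply, QuotientGroup.eq_one_iff]
      exact hexp x hx)
  have hcardW : Nat.card W = p ^ n := by
    rw [← hQ, ← relIndex_bot_left, ← relIndex_comap ⊥ π M, MonoidHom.comap_bot, hπ, QuotientGroup.ker_mk']
  rw [hcardW] at hcardF hα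
  -- only the identity is fixed by `h`
  have hfix : ∀ w ∈ W, h * w * h⁻¹ = w → w = 1 := by
    intro w hw hww
    have h1 := heq ⟨w, hw⟩
    rw [show MulAut.conjNormal h (⟨w, hw⟩ : W) = ⟨w, hw⟩ from Subtype.ext hww] at h1
    have hα1 : (α : F) ≠ 1 := by
      intro h'
      rw [(Units.val_eq_one.mp h' : α = 1), orderOf_one] at hα
      omega
    have h0 : e ⟨w, hw⟩ = 0 := by
      have h2 : ((α : F) - 1) * e ⟨w, hw⟩ = 0 := by rw [sub_mul, one_mul, ← h1, sub_self]
      exact (mul_eq_zero.mp h2).resolve_left (sub_ne_zero.mpr hα1)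
    have h3 := hadd 1 1
    rw [one_mul, left_eq_add] at h3
    exact congrArg Subtype.val (he.1 (h0.trans h3.symm))
  set C := centralizer (W : Set (G ⧸ N)) with hC
  have hmemC : ∀ {c : G ⧸ N}, c ∈ C → ∀ w ∈ W, Commute w c := fun hc w hw =>
    mem_centralizer_iff.mp hc w hw
  have hWC : W ≤ C := fun x hx => mem_centralizer_iff.mpr fun y hy => hWab y hy x hx
  -- every element is a power of `h` times a centralizing element
  have hsplit : ∀ r : G ⧸ N, ∃ i : ℕ, (h ^ i)⁻¹ * r ∈ C := by
    intro r
    obtain ⟨i, hi⟩ := hcov r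
    refine ⟨i, mem_centralizer_iff.mpr fun w hw => ?_⟩
    calc w * ((h ^ i)⁻¹ * r) = (h ^ i)⁻¹ * (h ^ i * w * (h ^ i)⁻¹) * r := by group
      _ = (h ^ i)⁻¹ * (r * w * r⁻¹) * r := by rw [← hi w hw]
      _ = (h ^ i)⁻¹ * r * w := by group
  -- a centralizing element commuting with `h` is central
  have hker : ∀ c ∈ C, Commute c h → c = 1 := by
    intro c hc hch
    have hcC : ∀ y ∈ C, Commute c y := by
      intro y hy
      refine commutatorElement_eq_one_iff_commute.mp (hfix _ (hWcomm c y) ?_)
      have hy' : ⁅h, y⁆ ∈ W := hWcomm h y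
      rw [← MulAut.conj_apply, map_commutatorElement, MulAut.conj_apply, MulAut.conj_apply,
        show h * c * h⁻¹ = c by rw [← hch.eq, mul_inv_cancel_right],
        show h * y * h⁻¹ = ⁅h, y⁆ * y by simp only [commutatorElement_def]; group]
      have h1 : Commute ⁅h, y⁆ c := hmemC hc _ hy'
      have h2 : Commute ⁅h, y⁆ ⁅c, y⁆ := hWab _ hy' _ (hWcomm c y)
      calc ⁅c, ⁅h, y⁆ * y⁆ = (c * ⁅h, y⁆) * y * c⁻¹ * y⁻¹ * ⁅h, y⁆⁻¹ := by
            simp only [commutatorElement_def (g₁ := c)]; group
        _ = ⁅h, y⁆ * ⁅c, y⁆ * ⁅h, y⁆⁻¹ := by rw [← h1.eq, commutatorElement_def c y]; group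
        _ = ⁅c, y⁆ := by rw [h2.eq, mul_inv_cancel_right]
    have hcW : c ∈ W := by
      obtain ⟨x, rfl⟩ := QuotientGroup.mk'_surjective N c
      refine hmk x (hcen x fun y => ?_)
      rw [← QuotientGroup.eq_one_iff, ← QuotientGroup.mk'_apply, map_commutatorElement,
        commutatorElement_eq_one_iff_commute]
      obtain ⟨i, hi⟩ := hsplit (π y)
      have := (hch.pow_right i).mul_right (hcC _ hi)
      rwa [mul_inv_cancel_left] at this
    exact hfix c hcW (by rw [← hch.eq, mul_inv_cancel_right])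
  have hCW : C ≤ W := by
    let δ : C → W := fun c => ⟨⁅(c : G ⧸ N), h⁆, hWcomm _ _⟩
    have hδ : Function.Injective δ := by
      intro b c hbc
      have h0 : ⁅(b : G ⧸ N), h⁆ = ⁅(c : G ⧸ N), h⁆ := congrArg Subtype.val hbc
      have h1 : Commute ((b : G ⧸ N)⁻¹ * c) h := by
        rw [← commutatorElement_eq_one_iff_commute, commutatorElement_mul_left_eq_conj_mul, ← h0]
        have h2 : Commute ⁅(b : G ⧸ N), h⁆ (b : G ⧸ N) := hmemC b.2 _ (hWcomm _ _)
        rw [← (h2.inv_right).eq, mul_inv_cancel_right]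
        simp only [commutatorElement_def]
        calc b.1 * h * b.1⁻¹ * h⁻¹ * (b.1⁻¹ * h * b.1⁻¹⁻¹ * h⁻¹)
            = ⁅b.1, h⁆ * b.1⁻¹ * h * b.1 * h⁻¹ := by simp only [commutatorElement_def]; group
          _ = b.1⁻¹ * ⁅b.1, h⁆ * h * b.1 * h⁻¹ := by rw [(h2.inv_right).eq]
          _ = 1 := by simp only [commutatorElement_def]; group
      exact Subtype.ext (inv_mul_eq_one.mp (hker _ (mul_mem (inv_mem b.2) c.2) h1))
    have := eq_of_le_of_card_ge hWC (Nat.card_le_card_of_injective δ hδ)
    exact this.ge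
  -- the index of `G'`
  have hpow : h ^ (p ^ n - 1) ∈ C := by
    have hk : ∀ (i : ℕ) (w : W), e (MulAut.conjNormal (h ^ i) w) = ((α ^ i : Fˣ) : F) * e w := by
      intro i
      induction i with
      | zero => intro w; simp
      | succ i ih =>
        intro w
        rw [pow_succ', _root_.map_mul, MulAut.mul_apply, heq, ih, pow_succ', Units.val_mul, mul_assoc]
    refine mem_centralizer_iff.mpr fun w hw => ?_
    have h1 := hk (p ^ n - 1) ⟨w, hw⟩
    rw [← hα, pow_orderOf_eq_one, Units.val_one, one_mul, hα] at h1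
    have h2 := congrArg Subtype.val (he.1 h1)
    rw [MulAut.conjNormal_apply] at h2
    exact (mul_inv_eq_iff_eq_mul.mp h2).symm
  have hkle : M.index ≤ p ^ n - 1 := by
    have hidx : W.index = M.index := by
      rw [hW, index_map_eq M (QuotientGroup.mk'_surjective N) (by rw [QuotientGroup.ker_mk']; exact hNM)]
    rw [← hidx, index_eq_card]
    refine le_of_le_of_eq (Nat.card_le_card_of_surjective
      (fun i : Fin (p ^ n - 1) => (QuotientGroup.mk (h ^ (i : ℕ)) : (G ⧸ N) ⧸ W)) ?_) (Nat.card_fin _)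
    intro r
    obtain ⟨r, rfl⟩ := QuotientGroup.mk_surjective r
    obtain ⟨i, hi⟩ := hsplit r
    refine ⟨⟨i % (p ^ n - 1), Nat.mod_lt _ (by omega)⟩, QuotientGroup.eq.mpr ?_⟩
    have e : (h ^ (i % (p ^ n - 1)))⁻¹ * r =
        ((h ^ (p ^ n - 1)) ^ (i / (p ^ n - 1))) * ((h ^ i)⁻¹ * r) := by
      have e' : h ^ i = h ^ (i % (p ^ n - 1)) * (h ^ (p ^ n - 1)) ^ (i / (p ^ n - 1)) := by
        rw [← pow_mul, ← pow_add, Nat.mod_add_div]
      have hc : Commute (h ^ (i % (p ^ n - 1))) ((h ^ (p ^ n - 1)) ^ (i / (p ^ n - 1))) :=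
        ((Commute.refl h).pow_pow _ _).pow_right _
      rw [e', hc.eq, mul_inv_rev]
      group
    show (h ^ (i % (p ^ n - 1)))⁻¹ * r ∈ W
    rw [e]
    exact mul_mem (pow_mem (hCW hpow) _) (hCW hi)
  have hCcard : ∀ x ∈ M, x ∉ N → Nat.card (centralizer ({x} : Set G)) = p ^ n := by
    intro x hx hxN
    have h1 := card_centralizer_mul hNM hgM hgN hclass hx hxN
    rw [hQ] at h1
    have hcop : (p ^ n - 1).Coprime (p ^ n) := by
      rw [Nat.coprime_self_sub_left (by omega)]; exact Nat.coprime_one_left _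
    have h2 : p ^ n - 1 ∣ M.index := hcop.dvd_of_dvd_mul_right (h1 ▸ dvd_mul_left _ _)
    have h3 : M.index = p ^ n - 1 :=
      le_antisymm hkle (Nat.le_of_dvd (Nat.pos_of_ne_zero index_ne_zero_of_finite) h2)
    rw [← hMdef, h3, mul_comm] at h1
    exact Nat.eq_of_mul_eq_mul_left (by omega) h1
  have hMidx : ¬ p ∣ M.index := by
    intro hd
    have h1 : M.index < p ^ n := by omega
    have h2 := card_centralizer_mul hNM hgM hgN hclass hgM hgN
    rw [hQ, hCcard g hgM hgN, mul_comm] at h2
    have h3 : M.index = p ^ n - 1 :=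
      (Nat.eq_of_mul_eq_mul_right (pow_pos hp.out.pos n) h2).symm
    rw [h3] at hd
    have := Nat.dvd_sub (dvd_pow_self p hn.ne') hd
    rw [show p ^ n - (p ^ n - 1) = 1 by omega, Nat.dvd_one] at this
    exact hp.out.ne_one this
  -- a Sylow subgroup
  have hzp : IsPGroup p (zpowers g) := IsPGroup.of_card (n := a) (by rw [Nat.card_zpowers, hga])
  obtain ⟨P, hP⟩ := hzp.exists_le_sylow
  have hgP : g ∈ (P : Subgroup G) := hP (mem_zpowers g)
  obtain ⟨b, hb⟩ := IsPGroup.iff_card.mp P.2
  have hPM : (P : Subgroup G) ≤ M := by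
    intro x hx
    refine (QuotientGroup.eq_one_iff x).mp (orderOf_eq_one_iff.mp (Nat.eq_one_of_dvd_coprimes
      (((Nat.Prime.coprime_iff_not_dvd hp.out).mpr hMidx).pow_left b) ?_ (index_eq_card M ▸ orderOf_dvd_natCard _)))
    refine (orderOf_map_dvd (QuotientGroup.mk' M) x).trans ?_
    rw [← hb, ← Subgroup.orderOf_mk x hx]
    exact orderOf_dvd_natCard _
  have hsup : (P : Subgroup G) ⊔ N = M := by
    refine le_antisymm (sup_le hPM hNM) fun x hx => ?_
    have h1 := Cfsg.Lib.Fusion.sylow_sup_eq_top (P.subtype hPM) (N.subgroupOf M) ⟨n, hQ⟩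
    have h2 : (⟨x, hx⟩ : M) ∈ (P : Subgroup G).subgroupOf M ⊔ N.subgroupOf M := by
      show (⟨x, hx⟩ : M) ∈ ((P.subtype hPM : Sylow p M) : Subgroup M) ⊔ N.subgroupOf M
      rw [h1]; exact mem_top _
    rw [← subgroupOf_sup hPM hNM] at h2
    exact h2
  have hcardP : Nat.card P = Nat.card ↥((P : Subgroup G) ⊓ N) * p ^ n := by
    rw [card_eq_inf_mul_relIndex (P : Subgroup G) N hsup, hQ]
  have hcoset : ∀ x ∈ (P : Subgroup G), x ∉ N → ∀ u ∈ (P : Subgroup G) ⊓ N,
      ∃ y ∈ (P : Subgroup G), y * x * y⁻¹ = x * u := fun x hx hxN =>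
    coset_class (P : Subgroup G) N hx (fun y hy => hab x (hPM hx) y (hPM hy))
      (by rw [hCcard x (hPM hx) hxN, hcardP, mul_comm])
  have hN0 : ∀ w ∈ (P : Subgroup G) ⊓ N, w ∈ ⁅(P : Subgroup G), (P : Subgroup G)⁆ := by
    intro w hw
    obtain ⟨y, hy, hyw⟩ := hcoset g hgP hgN w hw
    have : w = ⁅g⁻¹, y⁆ := by
      rw [← inv_mul_cancel_left g w, ← hyw]; simp only [commutatorElement_def]; group
    exact this ▸ commutator_mem_commutator (inv_mem hgP) hy
  have hcomP : _root_.commutator (P : Subgroup G) = N.subgroupOf (P : Subgroup G) := by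
    refine le_antisymm ?_ fun w hw => ?_
    · rw [_root_.commutator_def, commutator_le]
      intro x _ y _
      rw [mem_subgroupOf]
      show (P : Subgroup G).subtype ⁅x, y⁆ ∈ N
      rw [map_commutatorElement]
      exact hab _ (hPM x.2) _ (hPM y.2)
    · have := hN0 w ⟨w.2, hw⟩
      rw [← map_subtype_commutator] at this
      obtain ⟨w', hw', e'⟩ := this
      exact Subtype.ext e' ▸ hw'
  -- an element of the normalizer acting as `h`
  obtain ⟨t, rfl⟩ := QuotientGroup.mk'_surjective N h
  have hfr := Sylow.normalizer_sup_eq_top' (N := M) P hPM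
  obtain ⟨s, hs, m, hm, rfl⟩ := mem_sup_of_normal_right.mp (hfr ▸ mem_top t)
  have hsP : ∀ x ∈ (P : Subgroup G), s * x * s⁻¹ ∈ (P : Subgroup G) := fun x hx =>
    (mem_normalizer_iff.mp hs x).mp hx
  let ψ : ↥(P : Subgroup G) → F := fun x => e ⟨π x, hmk x (hPM x.2)⟩
  have hψ0 : ∀ x : (P : Subgroup G), ψ x = 0 ↔ (x : G) ∈ N := by
    intro x
    have h3 := hadd 1 1
    rw [one_mul, left_eq_add] at h3
    constructor
    · intro hx
      have := congrArg Subtype.val (he.1 (hx.trans h3.symm))
      exact (QuotientGroup.eq_one_iff (x : G)).mp this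
    · intro hx
      exact (congrArg e (Subtype.ext ((QuotientGroup.eq_one_iff (x : G)).mpr hx) :
        (⟨π x, hmk x (hPM x.2)⟩ : W) = 1)).trans h3
  let φ : MulAut (P : Subgroup G) := restrictAut (MulAut.conj s) (P : Subgroup G) hsP
  let S : Singer α (P : Subgroup G) :=
    { ψ := ψ
      φ := φ
      map_mul := fun x y => by
        show e _ = e _ + e _
        rw [← hadd]
        exact congrArg e (Subtype.ext (_root_.map_mul π (x : G) y))
      surj := fun f => by
        obtain ⟨⟨w, x, hx, rfl⟩, rfl⟩ := he.2 f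
        have hx' : x ∈ (P : Subgroup G) ⊔ N := hsup.symm ▸ hx
        obtain ⟨y, hy, u, hu, rfl⟩ := mem_sup_of_normal_right.mp hx'
        refine ⟨⟨y, hy⟩, congrArg e (Subtype.ext ?_)⟩
        show π y = π (y * u)
        rw [_root_.map_mul, show π u = 1 from (QuotientGroup.eq_one_iff u).mpr hu, mul_one]
      ker := fun x => by rw [hψ0, hcomP, mem_subgroupOf]
      equivariant := fun x => by
        show e _ = (α : F) * e ⟨π x, _⟩
        rw [← heq]
        refine congrArg e (Subtype.ext ?_)
        rw [MulAut.conjNormal_apply]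
        show π (s * x * s⁻¹) = π (s * m) * π x * (π (s * m))⁻¹
        have hc : π m * π x = π x * π m := hWab _ (hmk m hm) _ (hmk x (hPM x.2))
        simp only [_root_.map_mul, _root_.map_inv, mul_inv_rev]
        rw [mul_assoc (π s) (π m), hc]
        group
      camina := fun x hx u hu => by
        rw [hcomP, mem_subgroupOf] at hu
        obtain ⟨y, hy, hyu⟩ := hcoset x x.2 (fun h => hx ((hψ0 x).mpr h)) u ⟨u.2, hu⟩
        exact ⟨⟨y, hy⟩, Subtype.ext hyu⟩ }
  obtain ⟨-, hodd, htwo⟩ := S.main hα hn hcardF P.2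
  have hg : g ^ p = 1 ∨ g ^ 4 = 1 := by
    by_cases hp2 : p = 2
    · exact Or.inr (congrArg Subtype.val (htwo hp2 ⟨g, hgP⟩))
    · exact Or.inl (congrArg Subtype.val (hodd hp2 ⟨g, hgP⟩))
  exact isSolvable_of_normal hNM hab (isSolvable_of_small_centralizer N
    (hasNormalPComplement_of_inf_le_commutator P N hN0) (hCcard g hgM hgN) hg)

/-- **Solvability.** -/
theorem isSolvable_of_lone_class {d : ℕ} (hd : 2 ≤ d)
    (hdeg : d ^ 2 = (_root_.commutator G).index * (N.relIndex (_root_.commutator G) - 1)) :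
    Group.IsSolvable G := by
  obtain ⟨p, n, hp, hn, hQ, hexp, ⟨a, hga⟩, hab⟩ := exists_prime hNM hgM hgN hclass
  haveI : Fact p.Prime := ⟨hp⟩
  by_cases hQ2 : 2 < p ^ n
  · exact isSolvable_of_large hNM hgM hgN hclass hcen hn hQ hQ2 hexp hga hab
  · have h1 : p ^ 1 ≤ p ^ n := Nat.pow_le_pow_right hp.pos hn
    rw [pow_one] at h1
    have hp2 : p = 2 := le_antisymm (by omega) hp.two_le
    have hQ' : N.relIndex (_root_.commutator G) = 2 := by rw [hQ]; omega
    subst hp2
    exact isSolvable_of_two hNM hgM hgN hclass hcen hQ' hga hd (by rw [hdeg, hQ', show (2 : ℕ) - 1 = 1 from rfl, mul_one])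

end Cfsg.Lib.FPF
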