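import Cfsg.Agent.Lib.FPF.Digits
import Mathlib.LinearAlgebra.LinearIndependent.Basic
import Mathlib.LinearAlgebra.Basis.VectorSpace
import Mathlib.FieldTheory.Finite.Basic
import Mathlib.LinearAlgebra.Dual.Lemmas
import Mathlib.Algebra.Algebra.ZMod

/-!
# Additive maps of a finite field twisted by a primitive element

If a (multi)additive map on `F`, `#F = p ^ n`, transforms under multiplication by a primitive element `α`
through an operator annihilated by fewer than `n + 1` coefficients, its Frobenius monomials have short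
orbits.
-/

set_option autoImplicit false

namespace Cfsg.Lib.FPF

open Finset

variable {p n : ℕ} [hp : Fact p.Prime] {F : Type*} [Field F] [Fintype F] [CharP F p]

/-- The `i`-th Frobenius power. -/
def fr (p : ℕ) (i : Fin n) (x : F) : F := x ^ p ^ (i : ℕ)

omit [Fintype F] in
theorem fr_add (i : Fin n) (x y : F) : fr p i (x + y) = fr p i x + fr p i y := by
  haveI : ExpChar F p := ExpChar.prime hp.out
  exact add_pow_expChar_pow x y p i

omit hp [Fintype F] [CharP F p] in
theorem fr_mul (i : Fin n) (x y : F) : fr p i (x * y) = fr p i x * fr p i y := mul_pow _ _ _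

omit [Fintype F] in
theorem short_root (μ : Fin n → ZMod p) (hμ : μ ≠ 0) (z : F)
    (h : ∑ t : Fin n, (ZMod.castHom dvd_rfl F (μ t)) * z ^ (t : ℕ) = 0) :
    ∃ b : Fin n, (b : ℕ) ≠ 0 ∧ z ^ p ^ (b : ℕ) = z := by
  classical
  haveI : ExpChar F p := ExpChar.prime hp.out
  set P : Polynomial F := ∑ t : Fin n, Polynomial.C (ZMod.castHom dvd_rfl F (μ t)) * Polynomial.X ^ (t : ℕ)
  obtain ⟨t₀, ht₀⟩ := Function.ne_iff.mp hμ
  have hP : P ≠ 0 := by
    intro h0
    have := congrArg (fun Q => Polynomial.coeff Q t₀) h0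
    simp only [P, Polynomial.finsetSum_coeff, Polynomial.coeff_C_mul_X_pow, Polynomial.coeff_zero] at this
    rw [Finset.sum_eq_single t₀ (fun t _ ht => by rw [if_neg fun e => ht (Fin.ext e.symm)]) (by simp),
      if_pos rfl] at this
    exact ht₀ ((ZMod.castHom dvd_rfl F).injective (by rw [this, Pi.zero_apply, map_zero]))
  have hdeg : P.natDegree < n := by
    have : P.natDegree ≤ n - 1 := Polynomial.natDegree_sum_le_of_forall_le _ _ fun t _ =>
      (Polynomial.natDegree_C_mul_X_pow_le _ _).trans (by omega)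
    have := t₀.isLt
    omega
  have hroot : ∀ k : Fin n, z ^ p ^ (k : ℕ) ∈ P.roots.toFinset := by
    intro k
    rw [Multiset.mem_toFinset, Polynomial.mem_roots hP, Polynomial.IsRoot]
    simp only [P, Polynomial.eval_finsetSum, Polynomial.eval_mul, Polynomial.eval_C, Polynomial.eval_pow,
      Polynomial.eval_X]
    have := congrArg (iterateFrobenius F p (k : ℕ)) h
    rw [map_sum, map_zero] at this
    rw [← this]
    refine Finset.sum_congr rfl fun t _ => ?_
    rw [iterateFrobenius_def, mul_pow, ← map_pow, ZMod.pow_card_pow, ← pow_mul, ← pow_mul, mul_comm (t : ℕ)]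
  obtain ⟨k, -, l, -, hkl, he⟩ := Finset.exists_ne_map_eq_of_card_lt_of_maps_to
    (s := (Finset.univ : Finset (Fin n))) (t := P.roots.toFinset) (f := fun k : Fin n => z ^ p ^ (k : ℕ))
    (by rw [Finset.card_univ, Fintype.card_fin]
        exact lt_of_le_of_lt ((Multiset.toFinset_card_le _).trans P.card_roots') hdeg)
    (fun k _ => hroot k)
  have key : ∀ k l : Fin n, (k : ℕ) < l → z ^ p ^ (k : ℕ) = z ^ p ^ (l : ℕ) →
      ∃ b : Fin n, (b : ℕ) ≠ 0 ∧ z ^ p ^ (b : ℕ) = z := by
    intro k l hlt he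
    refine ⟨⟨l - k, by omega⟩, by simp only; omega, ?_⟩
    refine iterateFrobenius_inj F p (k : ℕ) ?_
    rw [iterateFrobenius_def, iterateFrobenius_def, he, ← pow_mul, ← pow_add,
      Nat.sub_add_cancel hlt.le]
  rcases lt_or_gt_of_ne (Fin.val_injective.ne hkl) with hlt | hlt
  · exact key k l hlt he
  · exact key l k hlt he.symm

variable (α : Fˣ) (hα : orderOf α = p ^ n - 1) (hn : 0 < n)

include hα hn in
theorem indep {c : Fin n → F} (h : ∀ x : F, ∑ i, c i * fr p i x = 0) : c = 0 := by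
  have hinj : Function.Injective fun i : Fin n => (powMonoidHom (p ^ (i : ℕ)) : F →* F) := by
    intro i j e
    have h1 : (α : F) ^ p ^ (i : ℕ) = (α : F) ^ p ^ (j : ℕ) := DFunLike.congr_fun e (α : F)
    rw [← Units.val_pow_eq_pow_val, ← Units.val_pow_eq_pow_val] at h1
    have h2 := pow_eq_pow_iff_modEq.mp (Units.ext h1)
    rw [hα] at h2
    rcases Nat.lt_or_ge n 2 with h1 | h2'
    · exact Fin.ext (by omega)
    have hb : ∀ k : Fin n, p ^ (k : ℕ) < p ^ n - 1 := fun k => by
      have h3 : p ^ (k : ℕ) * p ≤ p ^ n := by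
        rw [← pow_succ]; exact Nat.pow_le_pow_right hp.out.pos k.isLt
      have h4 : 2 * p ^ (k : ℕ) ≤ p ^ n := le_trans (by rw [mul_comm]; exact Nat.mul_le_mul_left _ hp.out.two_le) h3
      have h5 : p ^ 1 < p ^ n := Nat.pow_lt_pow_right hp.out.one_lt h2'
      rcases Nat.eq_zero_or_pos (k : ℕ) with h0 | h0
      · rw [h0, pow_zero]; have := hp.out.two_le; rw [pow_one] at h5; omega
      · have : p ^ 1 ≤ p ^ (k : ℕ) := Nat.pow_le_pow_right hp.out.pos h0
        have := hp.out.two_le; rw [pow_one] at *; omega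
    exact Fin.ext (Nat.pow_right_injective hp.out.two_le (Nat.ModEq.eq_of_lt_of_lt h2 (hb i) (hb j)))
  have hli := (linearIndependent_monoidHom F F).comp _ hinj
  rw [Fintype.linearIndependent_iff] at hli
  exact funext (hli c (funext fun x => by simpa [fr, Finset.sum_apply] using h x))

include hα hn in
theorem expand (hF : Nat.card F = p ^ n) (g : F → F) (hg : ∀ x y, g (x + y) = g x + g y) :
    ∃ c : Fin n → F, ∀ x, g x = ∑ i, c i * fr p i x := by
  classical
  letI : Algebra (ZMod p) F := ZMod.algebra F p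
  have hfin : Module.finrank (ZMod p) F = n := by
    have h := Module.card_eq_pow_finrank (K := ZMod p) (V := F)
    rw [ZMod.card, ← Nat.card_eq_fintype_card, hF] at h
    exact (Nat.pow_right_injective hp.out.two_le h).symm
  let b := Module.finBasisOfFinrankEq (ZMod p) F hfin
  let Φ : (Fin n → F) → (Fin n → F) := fun c k => ∑ i, c i * fr p i (b k)
  let L : (Fin n → F) → F →ₗ[ZMod p] F := fun c =>
    (AddMonoidHom.mk' (fun x => ∑ i, c i * fr p i x) fun x y => by
      simp only [fr_add, mul_add, Finset.sum_add_distrib]).toZModLinearMap p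
  have hΦ : Function.Injective Φ := by
    intro c d h
    have h0 : L c = L d := b.ext fun k => congrFun h k
    have h1 : ∀ x, ∑ i, (c i - d i) * fr p i x = 0 := fun x => by
      simp only [sub_mul, Finset.sum_sub_distrib, sub_eq_zero]
      exact LinearMap.congr_fun h0 x
    exact sub_eq_zero.mp (indep α hα hn h1)
  obtain ⟨c, hc⟩ := (Finite.surjective_of_injective hΦ) fun k => g (b k)
  refine ⟨c, fun x => ?_⟩
  have h1 : (AddMonoidHom.mk' g hg).toZModLinearMap p = L c := b.ext fun k => (congrFun hc k).symm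
  exact LinearMap.congr_fun h1 x

include hα hn in
theorem expand₂ (hF : Nat.card F = p ^ n) (g : F → F → F) (hl : ∀ x x' y, g (x + x') y = g x y + g x' y)
    (hr : ∀ x y y', g x (y + y') = g x y + g x y') :
    ∃ c : Fin n → Fin n → F, ∀ x y, g x y = ∑ i, ∑ j, c i j * (fr p i x * fr p j y) := by
  choose d hd using fun y => expand α hα hn hF (fun x => g x y) fun a b => hl a b y
  have hdadd : ∀ y y', d (y + y') = d y + d y' := fun y y' => by
    refine sub_eq_zero.mp (indep α hα hn fun x => ?_)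
    simp only [Pi.sub_apply, Pi.add_apply, sub_mul, add_mul, Finset.sum_sub_distrib, Finset.sum_add_distrib,
      ← hd, hr, sub_self]
  choose c hc using fun i => expand α hα hn hF (fun y => d y i) fun y y' => congrFun (hdadd y y') i
  refine ⟨c, fun x y => ?_⟩
  rw [hd y x]
  refine Finset.sum_congr rfl fun i _ => ?_
  rw [hc i y, Finset.sum_mul]
  exact Finset.sum_congr rfl fun j _ => by ring

include hα hn in
theorem indep₂ {c : Fin n → Fin n → F} (h : ∀ x y : F, ∑ i, ∑ j, c i j * (fr p i x * fr p j y) = 0) :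
    c = 0 := by
  have h1 : ∀ y, (fun i => ∑ j, c i j * fr p j y) = 0 := fun y => indep α hα hn fun x => by
    rw [← h x y]
    refine Finset.sum_congr rfl fun i _ => ?_
    rw [Finset.sum_mul]
    exact Finset.sum_congr rfl fun j _ => by ring
  exact funext fun i => indep α hα hn fun y => congrFun (h1 y) i

omit hp [Fintype F] [CharP F p] in
theorem fr_alpha (i : Fin n) (m : ℕ) (x : F) :
    fr p i (((α ^ m : Fˣ) : F) * x) = (((α ^ p ^ (i : ℕ)) ^ m : Fˣ) : F) * fr p i x := by
  rw [fr_mul, fr, ← Units.val_pow_eq_pow_val, ← pow_mul, ← pow_mul, mul_comm m]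

omit hp [Fintype F] [CharP F p] in
theorem fr_alpha' (i : Fin n) (m : ℕ) (x : F) :
    fr p i ((α : F) ^ m * x) = ((α : F) ^ p ^ (i : ℕ)) ^ m * fr p i x := by
  simpa using fr_alpha α i m x

omit [Fintype F] in
include hα in
theorem exists_shift (W : ℕ) (μ : Fin n → ZMod p) (hμ : μ ≠ 0)
    (h : ∑ t : Fin n, (ZMod.castHom dvd_rfl F (μ t)) * ((α ^ W : Fˣ) : F) ^ (t : ℕ) = 0) :
    ∃ b : Fin n, (b : ℕ) ≠ 0 ∧ W * p ^ (b : ℕ) ≡ W [MOD p ^ n - 1] := by
  obtain ⟨b, hb, hz⟩ := short_root μ hμ _ h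
  refine ⟨b, hb, ?_⟩
  rw [← Units.val_pow_eq_pow_val, ← pow_mul] at hz
  exact hα ▸ pow_eq_pow_iff_modEq.mp (Units.ext hz)

include hα hn in
/-- An annihilated additive map is zero. -/
theorem key₁ (hF : Nat.card F = p ^ n) (g : F → F) (hg : ∀ x y, g (x + y) = g x + g y) (μ : Fin n → ZMod p)
    (hμ : μ ≠ 0) (h : ∀ x, ∑ t : Fin n, ZMod.castHom dvd_rfl F (μ t) * g (((α ^ (t : ℕ) : Fˣ) : F) * x) = 0)
    (x : F) : g x = 0 := by
  haveI : NeZero n := ⟨hn.ne'⟩
  obtain ⟨c, hc⟩ := expand α hα hn hF g hg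
  have h0 : (fun i => c i * ∑ t : Fin n, ZMod.castHom dvd_rfl F (μ t) * ((α ^ p ^ (i : ℕ) : Fˣ) : F) ^ (t : ℕ)) = 0 := by
    refine indep α hα hn fun y => ?_
    rw [← h y]
    simp only [hc, Units.val_pow_eq_pow_val, fr_alpha', Finset.mul_sum, Finset.sum_mul]
    rw [Finset.sum_comm]
    exact Finset.sum_congr rfl fun t _ => Finset.sum_congr rfl fun i _ => by ring
  rw [hc]
  refine Finset.sum_eq_zero fun i _ => ?_
  rcases mul_eq_zero.mp (congrFun h0 i) with hi | hi
  · rw [hi, zero_mul]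
  · obtain ⟨b, hb, hW⟩ := exists_shift α hα _ μ hμ hi
    exact (single_shift hp.out.two_le i b (fun e => hb (by rw [e]; rfl)) hW).elim

include hα hn in
/-- An annihilated biadditive map is invariant under the order-two Galois twist. -/
theorem key₂ (hF : Nat.card F = p ^ n) (g : F → F → F) (hl : ∀ x x' y, g (x + x') y = g x y + g x' y)
    (hr : ∀ x y y', g x (y + y') = g x y + g x y') (μ : Fin n → ZMod p) (hμ : μ ≠ 0)
    (h : ∀ x y, ∑ t : Fin n, ZMod.castHom dvd_rfl F (μ t) *
      g (((α ^ (t : ℕ) : Fˣ) : F) * x) (((α ^ (t : ℕ) : Fˣ) : F) * y) = 0) :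
    ((∀ a : Fin n, (a : ℕ) ≠ 0 → ¬ (2 * (a : ℕ) = n)) → ∀ x y, g x y = 0) ∧
      ∀ a : Fin n, (a : ℕ) ≠ 0 → 2 * (a : ℕ) = n → ∀ x y,
        g (((α ^ p ^ (a : ℕ) : Fˣ) : F) * x) (((α ^ p ^ (a : ℕ) : Fˣ) : F) * y) = g ((α : F) * x) ((α : F) * y) := by
  haveI : NeZero n := ⟨hn.ne'⟩
  obtain ⟨c, hc⟩ := expand₂ α hα hn hF g hl hr
  have h0 : (fun i j => c i j * ∑ t : Fin n, ZMod.castHom dvd_rfl F (μ t) *
      ((α ^ (p ^ (i : ℕ) + p ^ (j : ℕ)) : Fˣ) : F) ^ (t : ℕ)) = 0 := by
    refine indep₂ α hα hn fun x y => ?_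
    rw [← h x y]
    simp only [hc, Units.val_pow_eq_pow_val, fr_alpha', Finset.mul_sum, Finset.sum_mul, pow_add, mul_pow, Units.val_mul]
    conv_rhs => rw [Finset.sum_comm]
    refine Finset.sum_congr rfl fun i _ => ?_
    rw [Finset.sum_comm]
    exact Finset.sum_congr rfl fun t _ => Finset.sum_congr rfl fun j _ => by ring
  have hsup : ∀ i j, c i j ≠ 0 → ∃ b : Fin n, (b : ℕ) ≠ 0 ∧ 2 * (b : ℕ) = n ∧ j = i + b := by
    intro i j hij
    obtain ⟨b, hb, hW⟩ := exists_shift α hα _ μ hμ ((mul_eq_zero.mp (congrFun (congrFun h0 i) j)).resolve_left hij)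
    have hb0 : b ≠ 0 := fun e => hb (by rw [e]; rfl)
    obtain ⟨-, hbb, hj⟩ := pair_shift hp.out.two_le i j b hb0 hW
    refine ⟨b, hb, ?_, hj⟩
    have h1 := congrArg Fin.val hbb
    rw [Fin.val_add, Fin.val_zero] at h1
    obtain ⟨d, hd⟩ := Nat.dvd_of_mod_eq_zero h1
    have := b.isLt
    rcases d with _ | _ | d
    · omega
    · omega
    · nlinarith
  constructor
  · intro hno x y
    rw [hc]
    refine Finset.sum_eq_zero fun i _ => Finset.sum_eq_zero fun j _ => ?_
    by_cases hij : c i j = 0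
    · rw [hij, zero_mul]
    · obtain ⟨b, hb, hb2, -⟩ := hsup i j hij
      exact absurd hb2 (hno b hb)
  · intro a ha ha2 x y
    rw [hc, hc]
    refine Finset.sum_congr rfl fun i _ => Finset.sum_congr rfl fun j _ => ?_
    by_cases hij : c i j = 0
    · rw [hij, zero_mul, zero_mul]
    obtain ⟨b, hb, hb2, rfl⟩ := hsup i j hij
    obtain rfl : b = a := Fin.ext (by omega)
    have hexp : ((α ^ p ^ (i : ℕ)) ^ p ^ (b : ℕ) * (α ^ p ^ ((i + b : Fin n) : ℕ)) ^ p ^ (b : ℕ) : Fˣ) =
        α ^ p ^ (i : ℕ) * α ^ p ^ ((i + b : Fin n) : ℕ) := by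
      rw [← pow_mul, ← pow_mul, ← pow_add α, ← pow_add α, pow_eq_pow_iff_modEq, hα, ← pow_add, ← pow_add]
      have hbb : b + b = 0 := Fin.ext (by rw [Fin.val_add, Fin.val_zero, ← two_mul, hb2, Nat.mod_self])
      have h1 := pow_add_modEq (n := n) hp.out.one_lt.le i b
      have h2 := pow_add_modEq (n := n) hp.out.one_lt.le (i + b) b
      rw [add_assoc, hbb, add_zero] at h2
      exact (h1.add h2).trans (by rw [add_comm])
    have hexp' := congrArg (Units.val (α := F)) hexp
    rw [Units.val_mul, Units.val_mul] at hexp'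
    have e1 : ∀ (k : Fin n) (w : F), fr p k ((α : F) * w) = ((α ^ p ^ (k : ℕ) : Fˣ) : F) * fr p k w := fun k w => by
      simpa using fr_alpha α k 1 w
    rw [fr_alpha, fr_alpha, e1, e1]
    linear_combination (c i (i + b) * fr p i x * fr p (i + b) y) * hexp'

include hα hn in
/-- An annihilated triadditive map invariant under the twist in its first two arguments is zero. -/
theorem key₃ (hF : Nat.card F = p ^ n) (g : F → F → F → F)
    (h1 : ∀ x x' y z, g (x + x') y z = g x y z + g x' y z)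
    (h2 : ∀ x y y' z, g x (y + y') z = g x y z + g x y' z)
    (h3 : ∀ x y z z', g x y (z + z') = g x y z + g x y z') (μ : Fin n → ZMod p) (hμ : μ ≠ 0)
    (h : ∀ x y z, ∑ t : Fin n, ZMod.castHom dvd_rfl F (μ t) * g (((α ^ (t : ℕ) : Fˣ) : F) * x)
      (((α ^ (t : ℕ) : Fˣ) : F) * y) (((α ^ (t : ℕ) : Fˣ) : F) * z) = 0)
    (a : Fin n) (ha : (a : ℕ) ≠ 0) (ha2 : 2 * (a : ℕ) = n)
    (hinv : ∀ x y z, g (((α ^ p ^ (a : ℕ) : Fˣ) : F) * x) (((α ^ p ^ (a : ℕ) : Fˣ) : F) * y) z =
      g ((α : F) * x) ((α : F) * y) z) (x y z : F) : g x y z = 0 := by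
  haveI : NeZero n := ⟨hn.ne'⟩
  have ha0 : a ≠ 0 := fun e => ha (by rw [e]; rfl)
  have haa : a + a = 0 := Fin.ext (by rw [Fin.val_add, Fin.val_zero, ← two_mul, ha2, Nat.mod_self])
  choose d hd using fun z => expand₂ α hα hn hF (fun x y => g x y z) (fun x x' y => h1 x x' y z)
    fun x y y' => h2 x y y' z
  have hdadd : ∀ z z', d (z + z') = d z + d z' := fun z z' => by
    refine sub_eq_zero.mp (indep₂ α hα hn fun x y => ?_)
    simp only [Pi.sub_apply, Pi.add_apply, sub_mul, add_mul, Finset.sum_sub_distrib, Finset.sum_add_distrib,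
      ← hd, h3, sub_self]
  choose c hc using fun i j => expand α hα hn hF (fun z => d z i j) fun z z' =>
    congrFun (congrFun (hdadd z z') i) j
  have hg : ∀ x y z, g x y z = ∑ i, ∑ j, ∑ k, c i j k * (fr p i x * fr p j y * fr p k z) := fun x y z => by
    rw [hd z x y]
    refine Finset.sum_congr rfl fun i _ => Finset.sum_congr rfl fun j _ => ?_
    rw [hc i j z, Finset.sum_mul]
    exact Finset.sum_congr rfl fun k _ => by ring
  have indep₃ : ∀ e : Fin n → Fin n → Fin n → F,
      (∀ x y z : F, ∑ i, ∑ j, ∑ k, e i j k * (fr p i x * fr p j y * fr p k z) = 0) → e = 0 := by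
    intro e he
    have h' : ∀ z, (fun i j => ∑ k, e i j k * fr p k z) = 0 := fun z => indep₂ α hα hn fun x y => by
      rw [← he x y z]
      refine Finset.sum_congr rfl fun i _ => Finset.sum_congr rfl fun j _ => ?_
      rw [Finset.sum_mul]
      exact Finset.sum_congr rfl fun k _ => by ring
    exact funext fun i => funext fun j => indep α hα hn fun z => congrFun (congrFun (h' z) i) j
  have hμ0 : (fun i j k => c i j k * ∑ t : Fin n, ZMod.castHom dvd_rfl F (μ t) *
      ((α ^ (p ^ (i : ℕ) + p ^ (j : ℕ) + p ^ (k : ℕ)) : Fˣ) : F) ^ (t : ℕ)) = 0 := by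
    refine indep₃ _ fun x y z => ?_
    rw [← h x y z]
    simp only [hg, Units.val_pow_eq_pow_val, fr_alpha', Finset.mul_sum, Finset.sum_mul, pow_add, mul_pow, Units.val_mul]
    conv_rhs => rw [Finset.sum_comm]
    refine Finset.sum_congr rfl fun i _ => ?_
    conv_rhs => rw [Finset.sum_comm]
    refine Finset.sum_congr rfl fun j _ => ?_
    rw [Finset.sum_comm]
    exact Finset.sum_congr rfl fun t _ => Finset.sum_congr rfl fun k _ => by ring
  have hinv0 : (fun i j k => c i j k * (((α ^ ((p ^ (i : ℕ) + p ^ (j : ℕ)) * p ^ (a : ℕ)) : Fˣ) : F) -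
      ((α ^ (p ^ (i : ℕ) + p ^ (j : ℕ)) : Fˣ) : F))) = 0 := by
    refine indep₃ _ fun x y z => ?_
    have e1 : ∀ (k : Fin n) (w : F), fr p k ((α : F) * w) = ((α ^ p ^ (k : ℕ) : Fˣ) : F) * fr p k w := fun k w => by
      simpa using fr_alpha α k 1 w
    have := sub_eq_zero.mpr (hinv x y z)
    rw [hg, hg] at this
    simp only [← Finset.sum_sub_distrib] at this
    rw [← this]
    refine Finset.sum_congr rfl fun i _ => Finset.sum_congr rfl fun j _ => Finset.sum_congr rfl fun k _ => ?_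
    rw [fr_alpha, fr_alpha, e1, e1]
    simp only [Units.val_pow_eq_pow_val, pow_add, add_mul, Units.val_mul, ← pow_mul]
    ring
  rw [hg]
  refine Finset.sum_eq_zero fun i _ => Finset.sum_eq_zero fun j _ => Finset.sum_eq_zero fun k _ => ?_
  by_cases hc0 : c i j k = 0
  · rw [hc0, zero_mul]
  exfalso
  have h4 := (mul_eq_zero.mp (congrFun (congrFun (congrFun hinv0 i) j) k)).resolve_left hc0
  rw [sub_eq_zero] at h4
  have h5 := pow_eq_pow_iff_modEq.mp (Units.ext h4)
  rw [hα] at h5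
  obtain ⟨-, -, rfl⟩ := pair_shift hp.out.two_le i j a ha0 h5
  obtain ⟨b, hb, hW⟩ := exists_shift α hα _ μ hμ
    ((mul_eq_zero.mp (congrFun (congrFun (congrFun hμ0 i) (i + a)) k)).resolve_left hc0)
  exact triple_shift hp.out.two_le i k a b ha0 haa (fun e => hb (by rw [e]; rfl)) hW

end Cfsg.Lib.FPF
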